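import Cfsg.Agent.H0.OFi23.D
set_option maxRecDepth 100000
set_option Elab.async false
set_option linter.unusedSectionVars false
namespace H0.OFi23
open H0 BN 
theorem c0 : Model.fixP R [17960, 19532, 23915, 10733, 5507] [[36], [37]] = true := by decide +kernel
theorem c1 : Model.growP R [[36], [37]] [0, 1] 3743 4 = true := by decide +kernel
theorem c2 : Model.fixP R [19532, 23915, 10733, 5507] [[34], [35]] = true := by decide +kernel
theorem c3 : Model.growP R [[34], [35]] [0, 1, 0, 1, 0, 1, 0, 1, 0, 1, 0, 1, 0, 1, 0, 1, 0, 1] 17960 1260 = true := by decide +kernel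
theorem c4 : Model.fixP R [23915, 10733, 5507] [[32], [33]] = true := by decide +kernel
theorem c5 : Model.growP R [[32], [33]] [0, 1, 0, 1, 0, 1, 0, 1, 0, 1, 0, 1, 0, 1, 0, 1, 0, 1, 0, 1] 19532 2592 = true := by decide +kernel
theorem c6 : Model.fixP R [10733, 5507] [[30], [31]] = true := by decide +kernel
theorem c7 : Model.growP R [[30], [31]] [0, 1, 0, 1, 0, 1, 0, 1, 0, 1, 0, 1, 0, 1, 0, 1, 0, 1, 0, 0] 23915 2816 = true := by decide +kernel
theorem c8 : Model.fixP R [5507] [[28], [29]] = true := by decide +kernel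
theorem c9 : Model.growP R [[28], [29]] [0, 1, 0, 1, 0, 1, 0, 1, 0, 1, 0, 1, 0, 1, 0, 1, 0, 1, 0, 1] 10733 3510 = true := by decide +kernel
theorem c10 : Model.fixP R [] [[26], [27]] = true := by decide +kernel
theorem c11 : Model.growP R [[26], [27]] [0, 1, 0, 1, 0, 1, 0, 1, 0, 1, 0, 1, 0, 1, 0, 1, 0, 1, 0, 1, 0, 1, 0, 1, 0, 0] 5507 31671 = true := by decide +kernel
theorem c12 : cycB R (subst [[23]] [0]) [10171, 1659, 25627, 4587, 1025, 30297, 3743, 17960, 19532, 23915, 10733, 5507] = true := by decide +kernel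
theorem c13 : cycB R (subst [[23]] [0]) [10171, 1659, 25627, 4587, 1025, 30297, 3743, 17960, 19532, 23915, 10733, 5507] = true := by decide +kernel
theorem c14 : allL (leafB R xOT (subst [[23]] [0]) [6, 7, 8, 9, 10, 11] [10171, 1659, 25627, 4587, 1025, 30297, 3743, 17960, 19532, 23915, 10733, 5507] [] []) xL14 = true := by decide +kernel
theorem c15 : allL (leafB R xOT (subst [[23]] [0]) [6, 7, 8, 9, 10, 11] [10171, 1659, 25627, 4587, 1025, 30297, 3743, 17960, 19532, 23915, 10733, 5507] [] []) xL15 = true := by decide +kernel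
theorem c16 : allL (leafB R xOT (subst [[23]] [0]) [6, 7, 8, 9, 10, 11] [10171, 1659, 25627, 4587, 1025, 30297, 3743, 17960, 19532, 23915, 10733, 5507] [] []) xL16 = true := by decide +kernel
theorem c17 : allL (leafB R xOT (subst [[23]] [0]) [6, 7, 8, 9, 10, 11] [10171, 1659, 25627, 4587, 1025, 30297, 3743, 17960, 19532, 23915, 10733, 5507] [] []) xL17 = true := by decide +kernel
theorem c18 : allL (leafB R xOT (subst [[23]] [0]) [6, 7, 8, 9, 10, 11] [10171, 1659, 25627, 4587, 1025, 30297, 3743, 17960, 19532, 23915, 10733, 5507] [] []) xL18 = true := by decide +kernel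
theorem c19 : allL (leafB R xOT (subst [[23]] [0]) [6, 7, 8, 9, 10, 11] [10171, 1659, 25627, 4587, 1025, 30297, 3743, 17960, 19532, 23915, 10733, 5507] [] []) xL19 = true := by decide +kernel
theorem c20 : allL (leafB R xOT (subst [[23]] [0]) [6, 7, 8, 9, 10, 11] [10171, 1659, 25627, 4587, 1025, 30297, 3743, 17960, 19532, 23915, 10733, 5507] [] []) xL20 = true := by decide +kernel
theorem c21 : allL (leafB R xOT (subst [[23]] [0]) [6, 7, 8, 9, 10, 11] [10171, 1659, 25627, 4587, 1025, 30297, 3743, 17960, 19532, 23915, 10733, 5507] [] []) xL21 = true := by decide +kernel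
theorem c22 : allL (leafB R xOT (subst [[23]] [0]) [6, 7, 8, 9, 10, 11] [10171, 1659, 25627, 4587, 1025, 30297, 3743, 17960, 19532, 23915, 10733, 5507] [] []) xL22 = true := by decide +kernel
theorem c23 : allL (leafB R xOT (subst [[23]] [0]) [6, 7, 8, 9, 10, 11] [10171, 1659, 25627, 4587, 1025, 30297, 3743, 17960, 19532, 23915, 10733, 5507] [] []) xL23 = true := by decide +kernel
theorem c24 : allL (leafB R xOT (subst [[23]] [0]) [6, 7, 8, 9, 10, 11] [10171, 1659, 25627, 4587, 1025, 30297, 3743, 17960, 19532, 23915, 10733, 5507] [] []) xL24 = true := by decide +kernel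
theorem c25 : allL (leafB R xOT (subst [[23]] [0]) [6, 7, 8, 9, 10, 11] [10171, 1659, 25627, 4587, 1025, 30297, 3743, 17960, 19532, 23915, 10733, 5507] [] []) xL25 = true := by decide +kernel
theorem c26 : allL (leafB R xOT (subst [[23]] [0]) [6, 7, 8, 9, 10, 11] [10171, 1659, 25627, 4587, 1025, 30297, 3743, 17960, 19532, 23915, 10733, 5507] [] []) xL26 = true := by decide +kernel
theorem c27 : allL (leafB R xOT (subst [[23]] [0]) [6, 7, 8, 9, 10, 11] [10171, 1659, 25627, 4587, 1025, 30297, 3743, 17960, 19532, 23915, 10733, 5507] [] []) xL27 = true := by decide +kernel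
theorem c28 : allL (leafB R xOT (subst [[23]] [0]) [6, 7, 8, 9, 10, 11] [10171, 1659, 25627, 4587, 1025, 30297, 3743, 17960, 19532, 23915, 10733, 5507] [] []) xL28 = true := by decide +kernel
theorem c29 : allL (leafB R xOT (subst [[23]] [0]) [6, 7, 8, 9, 10, 11] [10171, 1659, 25627, 4587, 1025, 30297, 3743, 17960, 19532, 23915, 10733, 5507] [] []) xL29 = true := by decide +kernel
theorem c30 : allL (leafB R xOT (subst [[23]] [0]) [6, 7, 8, 9, 10, 11] [10171, 1659, 25627, 4587, 1025, 30297, 3743, 17960, 19532, 23915, 10733, 5507] [] []) xL30 = true := by decide +kernel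
theorem c31 : allL (leafB R xOT (subst [[23]] [0]) [6, 7, 8, 9, 10, 11] [10171, 1659, 25627, 4587, 1025, 30297, 3743, 17960, 19532, 23915, 10733, 5507] [] []) xL31 = true := by decide +kernel
theorem c32 : allL (leafB R xOT (subst [[23]] [0]) [6, 7, 8, 9, 10, 11] [10171, 1659, 25627, 4587, 1025, 30297, 3743, 17960, 19532, 23915, 10733, 5507] [] []) xL32 = true := by decide +kernel
theorem c33 : allL (leafB R xOT (subst [[23]] [0]) [6, 7, 8, 9, 10, 11] [10171, 1659, 25627, 4587, 1025, 30297, 3743, 17960, 19532, 23915, 10733, 5507] [] []) xL33 = true := by decide +kernel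
theorem c34 : allL (leafB R xOT (subst [[23]] [0]) [6, 7, 8, 9, 10, 11] [10171, 1659, 25627, 4587, 1025, 30297, 3743, 17960, 19532, 23915, 10733, 5507] [] []) xL34 = true := by decide +kernel
theorem c35 : allL (leafB R xOT (subst [[23]] [0]) [6, 7, 8, 9, 10, 11] [10171, 1659, 25627, 4587, 1025, 30297, 3743, 17960, 19532, 23915, 10733, 5507] [] []) xL35 = true := by decide +kernel
theorem c36 : allL (leafB R xOT (subst [[23]] [0]) [6, 7, 8, 9, 10, 11] [10171, 1659, 25627, 4587, 1025, 30297, 3743, 17960, 19532, 23915, 10733, 5507] [] []) xL36 = true := by decide +kernel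
theorem c37 : allL (leafB R xOT (subst [[23]] [0]) [6, 7, 8, 9, 10, 11] [10171, 1659, 25627, 4587, 1025, 30297, 3743, 17960, 19532, 23915, 10733, 5507] [] []) xL37 = true := by decide +kernel
theorem c38 : allL (leafB R xOT (subst [[23]] [0]) [6, 7, 8, 9, 10, 11] [10171, 1659, 25627, 4587, 1025, 30297, 3743, 17960, 19532, 23915, 10733, 5507] [] []) xL38 = true := by decide +kernel
theorem c39 : allL (leafB R xOT (subst [[23]] [0]) [6, 7, 8, 9, 10, 11] [10171, 1659, 25627, 4587, 1025, 30297, 3743, 17960, 19532, 23915, 10733, 5507] [] []) xL39 = true := by decide +kernel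
theorem c40 : allL (leafB R xOT (subst [[23]] [0]) [6, 7, 8, 9, 10, 11] [10171, 1659, 25627, 4587, 1025, 30297, 3743, 17960, 19532, 23915, 10733, 5507] [] []) xL40 = true := by decide +kernel
theorem c41 : allL (leafB R xOT (subst [[23]] [0]) [6, 7, 8, 9, 10, 11] [10171, 1659, 25627, 4587, 1025, 30297, 3743, 17960, 19532, 23915, 10733, 5507] [] []) xL41 = true := by decide +kernel
theorem c42 : allL (leafB R xOT (subst [[23]] [0]) [6, 7, 8, 9, 10, 11] [10171, 1659, 25627, 4587, 1025, 30297, 3743, 17960, 19532, 23915, 10733, 5507] [] []) xL42 = true := by decide +kernel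
theorem c43 : allL (leafB R xOT (subst [[23]] [0]) [6, 7, 8, 9, 10, 11] [10171, 1659, 25627, 4587, 1025, 30297, 3743, 17960, 19532, 23915, 10733, 5507] [] []) xL43 = true := by decide +kernel
theorem c44 : allL (leafB R xOT (subst [[23]] [0]) [6, 7, 8, 9, 10, 11] [10171, 1659, 25627, 4587, 1025, 30297, 3743, 17960, 19532, 23915, 10733, 5507] [] []) xL44 = true := by decide +kernel
theorem c45 : allL (leafB R xOT (subst [[23]] [0]) [6, 7, 8, 9, 10, 11] [10171, 1659, 25627, 4587, 1025, 30297, 3743, 17960, 19532, 23915, 10733, 5507] [] []) xL45 = true := by decide +kernel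
theorem c46 : allL (leafB R xOT (subst [[23]] [0]) [6, 7, 8, 9, 10, 11] [10171, 1659, 25627, 4587, 1025, 30297, 3743, 17960, 19532, 23915, 10733, 5507] [] []) xL46 = true := by decide +kernel
theorem c47 : allL (leafB R xOT (subst [[23]] [0]) [6, 7, 8, 9, 10, 11] [10171, 1659, 25627, 4587, 1025, 30297, 3743, 17960, 19532, 23915, 10733, 5507] [] []) xL47 = true := by decide +kernel
theorem c48 : allL (leafB R xOT (subst [[23]] [0]) [6, 7, 8, 9, 10, 11] [10171, 1659, 25627, 4587, 1025, 30297, 3743, 17960, 19532, 23915, 10733, 5507] [] []) xL48 = true := by decide +kernel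
theorem c49 : allL (leafB R xOT (subst [[23]] [0]) [6, 7, 8, 9, 10, 11] [10171, 1659, 25627, 4587, 1025, 30297, 3743, 17960, 19532, 23915, 10733, 5507] [] []) xL49 = true := by decide +kernel
theorem c50 : allL (leafB R xOT (subst [[23]] [0]) [6, 7, 8, 9, 10, 11] [10171, 1659, 25627, 4587, 1025, 30297, 3743, 17960, 19532, 23915, 10733, 5507] [] []) xL50 = true := by decide +kernel
theorem c51 : freeB R xOT [[23]] xCg [] [] [] [] 5507 0 [([], 5507, 2)] [[0]] [0, 0, 0, 0, 0, 0, 0, 0, 0, 0, 0, 0, 0, 0, 0, 0, 0, 0, 0, 0, 0, 0] xc51 = true := by decide +kernel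
theorem c52 : Model.invB R (Model.cgens (xch.drop 0)) xO2 = true := by decide +kernel
theorem c53 : Model.invB R (Model.cgens (xch.drop 1)) xO1 = true := by decide +kernel
theorem c54 : Model.invB R (Model.cgens (xch.drop 1)) xO0 = true := by decide +kernel
theorem c55 : pairsB R [2, 20380, 6320, 1, 0] (((xCg.flatMap fun w => [[23]].map fun y => (w ++ y, y ++ w)).drop 0).take 1) = true := by decide +kernel
theorem c56 : Model.fixP R [1, 21545, 4878, 25943, 23185, 10245, 3439, 10818, 6106] [[57]] = true := by decide +kernel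
theorem c57 : Model.growP R [[57]] [0] 0 2 = true := by decide +kernel
theorem c58 : Model.fixP R [21545, 4878, 25943, 23185, 10245, 3439, 10818, 6106] [[55], [56]] = true := by decide +kernel
theorem c59 : Model.growP R [[55], [56]] [1] 1 2 = true := by decide +kernel
theorem c60 : Model.fixP R [4878, 25943, 23185, 10245, 3439, 10818, 6106] [[52], [53], [54]] = true := by decide +kernel
theorem c61 : Model.growP R [[52], [53], [54]] [1] 21545 2 = true := by decide +kernel
theorem c62 : Model.fixP R [25943, 23185, 10245, 3439, 10818, 6106] [[49], [50], [51]] = true := by decide +kernel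
theorem c63 : Model.growP R [[49], [50], [51]] [0, 0] 4878 3 = true := by decide +kernel
theorem c64 : Model.fixP R [23185, 10245, 3439, 10818, 6106] [[46], [47], [48]] = true := by decide +kernel
theorem c65 : Model.growP R [[46], [47], [48]] [0, 1, 2, 0, 1, 2, 1, 0] 25943 32 = true := by decide +kernel
theorem c66 : Model.fixP R [10245, 3439, 10818, 6106] [[44], [45]] = true := by decide +kernel
theorem c67 : Model.growP R [[44], [45]] [0, 1, 0, 1, 0, 1, 0, 1, 0, 1, 0, 0] 23185 135 = true := by decide +kernel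
theorem c68 : Model.fixP R [3439, 10818, 6106] [[42], [43]] = true := by decide +kernel
theorem c69 : Model.growP R [[42], [43]] [0, 1, 0, 1, 0, 1, 0, 1, 0, 1, 0, 1, 0, 1, 0, 1] 10245 512 = true := by decide +kernel
theorem c70 : Model.fixP R [10818, 6106] [[40], [41]] = true := by decide +kernel
theorem c71 : Model.growP R [[40], [41]] [0, 1, 0, 1, 0, 1, 0, 1, 0, 1, 0, 1, 0, 1, 0, 1, 0] 3439 693 = true := by decide +kernel
theorem c72 : Model.fixP R [6106] [[38], [39]] = true := by decide +kernel
theorem c73 : Model.growP R [[38], [39]] [0, 1, 0, 1, 0, 1, 0, 1, 0, 1, 0, 1, 0, 1, 0, 1, 0, 1, 0, 0, 0] 10818 3510 = true := by decide +kernel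
theorem c74 : Model.fixP R [] [[26], [27]] = true := by decide +kernel
theorem c75 : Model.growP R [[26], [27]] [0, 1, 0, 1, 0, 1, 0, 1, 0, 1, 0, 1, 0, 1, 0, 1, 0, 1, 0, 1, 0, 1, 0, 1, 0, 0] 6106 31671 = true := by decide +kernel
theorem c76 : cycB R (subst [[24]] []) [6106] = true := by decide +kernel
theorem c77 : cycB R (subst [[24]] []) [10818] = true := by decide +kernel
theorem c78 : cycB R (subst [[24]] [0]) [21545, 4878, 25943, 23185, 10245, 3439] = true := by decide +kernel
theorem c79 : cycB R (subst [[24]] []) [1] = true := by decide +kernel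
theorem c80 : cycB R (subst [[24]] []) [0] = true := by decide +kernel
theorem c81 : cycB R (subst [[24]] []) [0] = true := by decide +kernel
theorem c82 : freeB R yOT [[24]] yCg [0, 1, 2, 3, 4, 5, 6, 7, 8] [1, 21545, 4878, 25943, 23185, 10245, 3439, 10818, 6106] [1, 21545, 4878, 25943, 23185, 10245, 3439, 10818, 6106] [] 0 0 [([], 0, 0)] [[1]] [0] yc82 = true := by decide +kernel
theorem c83 : cycB R (subst [[24]] []) [1] = true := by decide +kernel
theorem c84 : freeB R yOT [[24]] yCg [0, 1, 2, 3, 4, 5, 6, 7] [21545, 4878, 25943, 23185, 10245, 3439, 10818, 6106] [21545, 4878, 25943, 23185, 10245, 3439, 10818, 6106] [] 1 0 [([], 1, 1)] [[1], [2]] [1] yc84 = true := by decide +kernel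
theorem c85 : cycB R (subst [[24]] [0]) [21545, 4878, 25943, 23185, 10245, 3439] = true := by decide +kernel
theorem c86 : allL (leafB R yOT (subst [[24]] [0]) [0, 1, 2, 3, 4, 5, 6, 7] [21545, 4878, 25943, 23185, 10245, 3439] [10818, 6106] [10818, 6106]) yL86 = true := by decide +kernel
theorem c87 : allL (leafB R yOT (subst [[24]] [0]) [0, 1, 2, 3, 4, 5, 6, 7] [21545, 4878, 25943, 23185, 10245, 3439] [10818, 6106] [10818, 6106]) yL87 = true := by decide +kernel
theorem c88 : allL (leafB R yOT (subst [[24]] [0]) [0, 1, 2, 3, 4, 5, 6, 7] [21545, 4878, 25943, 23185, 10245, 3439] [10818, 6106] [10818, 6106]) yL88 = true := by decide +kernel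
theorem c89 : freeB R yOT [[24]] yCg [0, 1] [10818, 6106] [10818, 6106] [] 3439 0 [([], 3439, 6)] [[0], [1], [2]] [0, 0, 0, 0, 0, 0, 0, 0, 0, 0] yc89 = true := by decide +kernel
theorem c90 : cycB R (subst [[24]] []) [10818] = true := by decide +kernel
theorem c91 : exclB R (subst [[24]] [0]) 10818 yD1 = true := by decide +kernel
theorem c92 : freeB R yOT [[24]] yCg [0] [6106] [6106] [] 10818 yD1 [([], 10818, 7)] [[0], [1], [2]] [] yc92 = true := by decide +kernel
theorem c93 : cycB R (subst [[24]] []) [6106] = true := by decide +kernel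
theorem c94 : allL (leafB R yOT (subst [[24]] [0]) [0, 1, 2, 3, 4, 5, 6, 7] [21545, 4878, 25943, 23185, 10245, 3439] [10818, 6106] [6106, 10818]) yL94 = true := by decide +kernel
theorem c95 : allL (leafB R yOT (subst [[24]] [0]) [0, 1, 2, 3, 4, 5, 6, 7] [21545, 4878, 25943, 23185, 10245, 3439] [10818, 6106] [6106, 10818]) yL95 = true := by decide +kernel
theorem c96 : allL (leafB R yOT (subst [[24]] [0]) [0, 1, 2, 3, 4, 5, 6, 7] [21545, 4878, 25943, 23185, 10245, 3439] [10818, 6106] [6106, 10818]) yL96 = true := by decide +kernel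
theorem c97 : allL (leafB R yOT (subst [[24]] [0]) [0, 1, 2, 3, 4, 5, 6, 7] [21545, 4878, 25943, 23185, 10245, 3439] [10818, 6106] [6106, 10818]) yL97 = true := by decide +kernel
theorem c98 : allL (leafB R yOT (subst [[24]] [0]) [0, 1, 2, 3, 4, 5, 6, 7] [21545, 4878, 25943, 23185, 10245, 3439] [10818, 6106] [6106, 10818]) yL98 = true := by decide +kernel
theorem c99 : allL (leafB R yOT (subst [[24]] [0]) [0, 1, 2, 3, 4, 5, 6, 7] [21545, 4878, 25943, 23185, 10245, 3439] [10818, 6106] [6106, 10818]) yL99 = true := by decide +kernel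
theorem c100 : allL (leafB R yOT (subst [[24]] [0]) [0, 1, 2, 3, 4, 5, 6, 7] [21545, 4878, 25943, 23185, 10245, 3439] [10818, 6106] [6106, 10818]) yL100 = true := by decide +kernel
theorem c101 : freeB R yOT [[24]] yCg [0, 1] [10818, 6106] [6106, 10818] [38, 39, 38, 38, 39, 38, 38, 38, 38, 38, 26, 26, 26, 26, 26, 27, 26, 26, 26, 26, 27, 26, 26, 26, 27, 26, 27] 3439 0 [([], 3439, 6)] [[0], [1], [2]] [0, 0, 0, 0, 0, 0, 0, 0, 0, 0] yc101 = true := by decide +kernel
theorem c102 : cycB R (subst [[24]] []) [6106] = true := by decide +kernel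
theorem c103 : freeB R yOT [[24]] yCg [0] [6106] [10818] [26, 26, 26, 26, 26, 27, 26, 26, 26, 26, 27, 26, 26, 26, 27, 26, 27] 10818 yD1 [([], 10818, 7)] [[0], [1], [2]] [] yc103 = true := by decide +kernel
theorem c104 : cycB R (subst [[24]] []) [10818] = true := by decide +kernel
theorem c105 : exclB R (subst [[24]] [0]) 6106 yD0 = true := by decide +kernel
theorem c106 : freeB R yOT [[24]] yCg [] [] [] [] 6106 yD0 [([], 6106, 8)] [[0], [1], [2]] [] yc106 = true := by decide +kernel
theorem c107 : Model.invB R (Model.cgens (ych.drop 0)) yO8 = true := by decide +kernel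
theorem c108 : Model.invB R (Model.cgens (ych.drop 1)) yO7 = true := by decide +kernel
theorem c109 : Model.invB R (Model.cgens (ych.drop 2)) yO6 = true := by decide +kernel
theorem c110 : Model.invB R (Model.cgens (ych.drop 6)) yO5 = true := by decide +kernel
theorem c111 : Model.invB R (Model.cgens (ych.drop 4)) yO4 = true := by decide +kernel
theorem c112 : Model.invB R (Model.cgens (ych.drop 4)) yO3 = true := by decide +kernel
theorem c113 : Model.invB R (Model.cgens (ych.drop 3)) yO2 = true := by decide +kernel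
theorem c114 : Model.invB R (Model.cgens (ych.drop 8)) yO1 = true := by decide +kernel
theorem c115 : Model.invB R (Model.cgens (ych.drop 9)) yO0 = true := by decide +kernel
theorem c116 : pairsB R [2, 20380, 6320, 1, 0] (((yCg.flatMap fun w => [[24]].map fun y => (w ++ y, y ++ w)).drop 0).take 3) = true := by decide +kernel
theorem c117 : pairsB R [2, 20380, 6320, 1, 0] ((CE.drop 0).take 19) = true := by decide +kernel
theorem c118 : pairsB R [2, 20380, 6320, 1, 0] ((CE.drop 19).take 10) = true := by decide +kernel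
end H0.OFi23
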