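import Cfsg.Agent.H0.OFi23.D
set_option maxRecDepth 100000
set_option Elab.async false
set_option linter.unusedSectionVars false
namespace H0.OFi23
open H0 BN 
theorem c126 : pairsB R [2, 20380, 6320, 1, 0] ((CE.drop 109).take 10) = true := by decide +kernel
theorem c127 : pairsB R [2, 20380, 6320, 1, 0] ((CE.drop 119).take 7) = true := by decide +kernel
theorem c128 : pairsB R [2, 20380, 6320, 1, 0] ((CE.drop 126).take 6) = true := by decide +kernel
theorem c129 : pairsB R [2, 20380, 6320, 1, 0] (((Model.outE 23 24 25 [24] 23 2 1 1 RL).drop 0).take 6) = true := by decide +kernel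
theorem c130 : pairsB R [2, 20380, 6320, 1, 0] (((Model.outE 23 24 25 [24] 23 2 1 1 RL).drop 6).take 1) = true := by decide +kernel
theorem c131 : neB R [23] [] 0 12953 0 = true := by decide +kernel
theorem c132 : allL (elimB R 23 24 25 RL [(1, [])]) ((EL.drop 0).take 47) = true := by decide +kernel
theorem c133 : allL (elimB R 23 24 25 RL [(1, [])]) ((EL.drop 47).take 41) = true := by decide +kernel
theorem c134 : eqW R 0 5 [59] [11, 10, 10, 11, 11, 10, 10, 10, 10, 10, 11, 10, 10, 10, 12, 12, 13, 12, 12, 12, 12, 13, 13, 12, 12, 12, 12, 13, 12, 12, 14, 14, 14, 15, 14, 14, 15, 14, 14, 15, 14, 17, 17, 18, 18, 18, 18, 18, 16, 21, 20, 20, 19, 19] = true := by decide +kernel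
theorem c135 : eqW R 5 5 [59] [11, 10, 10, 11, 11, 10, 10, 10, 10, 10, 11, 10, 10, 10, 12, 12, 13, 12, 12, 12, 12, 13, 13, 12, 12, 12, 12, 13, 12, 12, 14, 14, 14, 15, 14, 14, 15, 14, 14, 15, 14, 17, 17, 18, 18, 18, 18, 18, 16, 21, 20, 20, 19, 19] = true := by decide +kernel
theorem c136 : eqW R 10 5 [59] [11, 10, 10, 11, 11, 10, 10, 10, 10, 10, 11, 10, 10, 10, 12, 12, 13, 12, 12, 12, 12, 13, 13, 12, 12, 12, 12, 13, 12, 12, 14, 14, 14, 15, 14, 14, 15, 14, 14, 15, 14, 17, 17, 18, 18, 18, 18, 18, 16, 21, 20, 20, 19, 19] = true := by decide +kernel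
theorem c137 : eqW R 0 5 [58] [11, 10, 11, 10, 10, 10, 11, 11, 10, 10, 11, 11, 11, 12, 12, 12, 13, 13, 12, 12, 13, 12, 12, 12, 12, 12, 13, 15, 14, 14, 15, 14, 15, 14, 14, 14, 15, 14, 14, 14, 15, 18, 18, 17, 16, 17, 17, 17, 20, 20, 19, 19] = true := by decide +kernel
theorem c138 : eqW R 5 5 [58] [11, 10, 11, 10, 10, 10, 11, 11, 10, 10, 11, 11, 11, 12, 12, 12, 13, 13, 12, 12, 13, 12, 12, 12, 12, 12, 13, 15, 14, 14, 15, 14, 15, 14, 14, 14, 15, 14, 14, 14, 15, 18, 18, 17, 16, 17, 17, 17, 20, 20, 19, 19] = true := by decide +kernel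
theorem c139 : eqW R 10 5 [58] [11, 10, 11, 10, 10, 10, 11, 11, 10, 10, 11, 11, 11, 12, 12, 12, 13, 13, 12, 12, 13, 12, 12, 12, 12, 12, 13, 15, 14, 14, 15, 14, 15, 14, 14, 14, 15, 14, 14, 14, 15, 18, 18, 17, 16, 17, 17, 17, 20, 20, 19, 19] = true := by decide +kernel
theorem c140 : eqW R 0 5 [57] [56, 56, 56, 55, 56] = true := by decide +kernel
theorem c141 : eqW R 5 5 [57] [56, 56, 56, 55, 56] = true := by decide +kernel
theorem c142 : eqW R 10 5 [57] [56, 56, 56, 55, 56] = true := by decide +kernel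
theorem c143 : eqW R 0 5 [56] [54, 52, 52, 53] = true := by decide +kernel
theorem c144 : eqW R 5 5 [56] [54, 52, 52, 53] = true := by decide +kernel
theorem c145 : eqW R 10 5 [56] [54, 52, 52, 53] = true := by decide +kernel
theorem c146 : eqW R 0 5 [55] [53, 52, 54, 54, 54] = true := by decide +kernel
theorem c147 : eqW R 5 5 [55] [53, 52, 54, 54, 54] = true := by decide +kernel
theorem c148 : eqW R 10 5 [55] [53, 52, 54, 54, 54] = true := by decide +kernel
theorem c149 : eqW R 0 5 [54] [49, 50, 51, 51, 49, 49, 51, 49, 51, 49, 49, 51, 50, 50, 49] = true := by decide +kernel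
theorem c150 : eqW R 5 5 [54] [49, 50, 51, 51, 49, 49, 51, 49, 51, 49, 49, 51, 50, 50, 49] = true := by decide +kernel
theorem c151 : eqW R 10 5 [54] [49, 50, 51, 51, 49, 49, 51, 49, 51, 49, 49, 51, 50, 50, 49] = true := by decide +kernel
theorem c152 : eqW R 0 5 [53] [49, 51, 49, 49, 50, 51, 49, 51, 51, 49, 50, 51, 51, 50] = true := by decide +kernel
theorem c153 : eqW R 5 5 [53] [49, 51, 49, 49, 50, 51, 49, 51, 51, 49, 50, 51, 51, 50] = true := by decide +kernel
theorem c154 : eqW R 10 5 [53] [49, 51, 49, 49, 50, 51, 49, 51, 51, 49, 50, 51, 51, 50] = true := by decide +kernel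
theorem c155 : eqW R 0 5 [52] [49, 49, 51, 50, 49, 50, 51, 51, 49, 50, 50, 49, 51, 50, 51, 50] = true := by decide +kernel
theorem c156 : eqW R 5 5 [52] [49, 49, 51, 50, 49, 50, 51, 51, 49, 50, 50, 49, 51, 50, 51, 50] = true := by decide +kernel
theorem c157 : eqW R 10 5 [52] [49, 49, 51, 50, 49, 50, 51, 51, 49, 50, 50, 49, 51, 50, 51, 50] = true := by decide +kernel
theorem c158 : eqW R 0 5 [51] [46, 48, 47, 47, 46, 47, 46, 48, 47, 48, 47, 46, 46, 46] = true := by decide +kernel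
theorem c159 : eqW R 5 5 [51] [46, 48, 47, 47, 46, 47, 46, 48, 47, 48, 47, 46, 46, 46] = true := by decide +kernel
theorem c160 : eqW R 10 5 [51] [46, 48, 47, 47, 46, 47, 46, 48, 47, 48, 47, 46, 46, 46] = true := by decide +kernel
theorem c161 : eqW R 0 5 [50] [46, 47, 48, 47, 48, 47, 46, 46, 47, 46, 47, 46, 48] = true := by decide +kernel
theorem c162 : eqW R 5 5 [50] [46, 47, 48, 47, 48, 47, 46, 46, 47, 46, 47, 46, 48] = true := by decide +kernel
theorem c163 : eqW R 10 5 [50] [46, 47, 48, 47, 48, 47, 46, 46, 47, 46, 47, 46, 48] = true := by decide +kernel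
theorem c164 : eqW R 0 5 [49] [47, 46, 47, 48, 48, 47, 48, 48, 46, 47, 48, 47, 48] = true := by decide +kernel
theorem c165 : eqW R 5 5 [49] [47, 46, 47, 48, 48, 47, 48, 48, 46, 47, 48, 47, 48] = true := by decide +kernel
theorem c166 : eqW R 10 5 [49] [47, 46, 47, 48, 48, 47, 48, 48, 46, 47, 48, 47, 48] = true := by decide +kernel
theorem c167 : eqW R 0 5 [48] [44, 45, 45, 44, 45, 44, 44, 44, 44, 45, 44, 45, 45, 44, 44, 44, 45, 44] = true := by decide +kernel
theorem c168 : eqW R 5 5 [48] [44, 45, 45, 44, 45, 44, 44, 44, 44, 45, 44, 45, 45, 44, 44, 44, 45, 44] = true := by decide +kernel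
theorem c169 : eqW R 10 5 [48] [44, 45, 45, 44, 45, 44, 44, 44, 44, 45, 44, 45, 45, 44, 44, 44, 45, 44] = true := by decide +kernel
theorem c170 : eqW R 0 5 [47] [45, 44, 44, 44, 44, 45, 45, 45, 45, 44, 45, 45, 44, 45, 44, 44, 45] = true := by decide +kernel
theorem c171 : eqW R 5 5 [47] [45, 44, 44, 44, 44, 45, 45, 45, 45, 44, 45, 45, 44, 45, 44, 44, 45] = true := by decide +kernel
theorem c172 : eqW R 10 5 [47] [45, 44, 44, 44, 44, 45, 45, 45, 45, 44, 45, 45, 44, 45, 44, 44, 45] = true := by decide +kernel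
theorem c173 : eqW R 0 5 [46] [45, 45, 44, 44, 44, 45, 45, 44, 44, 44, 45, 45, 44, 45, 45, 45, 44, 45, 44] = true := by decide +kernel
theorem c174 : eqW R 5 5 [46] [45, 45, 44, 44, 44, 45, 45, 44, 44, 44, 45, 45, 44, 45, 45, 45, 44, 45, 44] = true := by decide +kernel
theorem c175 : eqW R 10 5 [46] [45, 45, 44, 44, 44, 45, 45, 44, 44, 44, 45, 45, 44, 45, 45, 45, 44, 45, 44] = true := by decide +kernel
theorem c176 : eqW R 0 5 [45] [42, 43, 42, 42, 42, 43, 42, 42, 42, 42, 43, 43, 43] = true := by decide +kernel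
theorem c177 : eqW R 5 5 [45] [42, 43, 42, 42, 42, 43, 42, 42, 42, 42, 43, 43, 43] = true := by decide +kernel
theorem c178 : eqW R 10 5 [45] [42, 43, 42, 42, 42, 43, 42, 42, 42, 42, 43, 43, 43] = true := by decide +kernel
theorem c179 : eqW R 0 5 [44] [43, 43, 42, 42, 42, 42, 42, 43, 43, 43, 43, 42, 43, 43] = true := by decide +kernel
theorem c180 : eqW R 5 5 [44] [43, 43, 42, 42, 42, 42, 42, 43, 43, 43, 43, 42, 43, 43] = true := by decide +kernel
theorem c181 : eqW R 10 5 [44] [43, 43, 42, 42, 42, 42, 42, 43, 43, 43, 43, 42, 43, 43] = true := by decide +kernel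
theorem c182 : eqW R 0 5 [43] [40, 41, 41, 41, 40, 40, 40, 40, 41, 41, 41, 40] = true := by decide +kernel
theorem c183 : eqW R 5 5 [43] [40, 41, 41, 41, 40, 40, 40, 40, 41, 41, 41, 40] = true := by decide +kernel
theorem c184 : eqW R 10 5 [43] [40, 41, 41, 41, 40, 40, 40, 40, 41, 41, 41, 40] = true := by decide +kernel
theorem c185 : eqW R 0 5 [42] [40, 41, 40, 41, 40, 40, 40, 41, 41] = true := by decide +kernel
theorem c186 : eqW R 5 5 [42] [40, 41, 40, 41, 40, 40, 40, 41, 41] = true := by decide +kernel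
theorem c187 : eqW R 10 5 [42] [40, 41, 40, 41, 40, 40, 40, 41, 41] = true := by decide +kernel
theorem c188 : eqW R 0 5 [41] [39, 38, 39, 38, 38, 38, 39, 39, 39, 38, 39, 38, 39, 39, 38] = true := by decide +kernel
theorem c189 : eqW R 5 5 [41] [39, 38, 39, 38, 38, 38, 39, 39, 39, 38, 39, 38, 39, 39, 38] = true := by decide +kernel
theorem c190 : eqW R 10 5 [41] [39, 38, 39, 38, 38, 38, 39, 39, 39, 38, 39, 38, 39, 39, 38] = true := by decide +kernel
theorem c191 : eqW R 0 5 [40] [38, 38, 39, 39, 39, 38, 39, 38, 38, 38, 39] = true := by decide +kernel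
theorem c192 : eqW R 5 5 [40] [38, 38, 39, 39, 39, 38, 39, 38, 38, 38, 39] = true := by decide +kernel
theorem c193 : eqW R 10 5 [40] [38, 38, 39, 39, 39, 38, 39, 38, 38, 38, 39] = true := by decide +kernel
theorem c194 : eqW R 0 5 [39] [26, 27, 26, 26, 26, 26, 27, 27, 26, 26, 26, 27, 26, 27, 27, 26, 26, 27, 27] = true := by decide +kernel
theorem c195 : eqW R 5 5 [39] [26, 27, 26, 26, 26, 26, 27, 27, 26, 26, 26, 27, 26, 27, 27, 26, 26, 27, 27] = true := by decide +kernel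
theorem c196 : eqW R 10 5 [39] [26, 27, 26, 26, 26, 26, 27, 27, 26, 26, 26, 27, 26, 27, 27, 26, 26, 27, 27] = true := by decide +kernel
theorem c197 : eqW R 0 5 [38] [26, 26, 27, 27, 27, 26, 26, 26, 27, 27, 27, 27, 27, 27, 27, 27, 26, 26, 27] = true := by decide +kernel
theorem c198 : eqW R 5 5 [38] [26, 26, 27, 27, 27, 26, 26, 26, 27, 27, 27, 27, 27, 27, 27, 27, 26, 26, 27] = true := by decide +kernel
theorem c199 : eqW R 10 5 [38] [26, 26, 27, 27, 27, 26, 26, 26, 27, 27, 27, 27, 27, 27, 27, 27, 26, 26, 27] = true := by decide +kernel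
theorem c200 : eqW R 0 5 [37] [35, 34, 34, 34, 35, 35, 35, 35, 34, 35] = true := by decide +kernel
theorem c201 : eqW R 5 5 [37] [35, 34, 34, 34, 35, 35, 35, 35, 34, 35] = true := by decide +kernel
theorem c202 : eqW R 10 5 [37] [35, 34, 34, 34, 35, 35, 35, 35, 34, 35] = true := by decide +kernel
theorem c203 : eqW R 0 5 [36] [35, 34, 35, 34, 35, 34, 35, 34, 35, 34] = true := by decide +kernel
theorem c204 : eqW R 5 5 [36] [35, 34, 35, 34, 35, 34, 35, 34, 35, 34] = true := by decide +kernel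
theorem c205 : eqW R 10 5 [36] [35, 34, 35, 34, 35, 34, 35, 34, 35, 34] = true := by decide +kernel
theorem c206 : eqW R 0 5 [35] [32, 32, 33, 33, 32, 32, 32, 32, 32, 32, 32, 33, 32, 33] = true := by decide +kernel
theorem c207 : eqW R 5 5 [35] [32, 32, 33, 33, 32, 32, 32, 32, 32, 32, 32, 33, 32, 33] = true := by decide +kernel
theorem c208 : eqW R 10 5 [35] [32, 32, 33, 33, 32, 32, 32, 32, 32, 32, 32, 33, 32, 33] = true := by decide +kernel
theorem c209 : eqW R 0 5 [34] [32, 32, 32, 32, 32, 33, 32, 33, 32, 32, 32, 33, 32] = true := by decide +kernel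
theorem c210 : eqW R 5 5 [34] [32, 32, 32, 32, 32, 33, 32, 33, 32, 32, 32, 33, 32] = true := by decide +kernel
theorem c211 : eqW R 10 5 [34] [32, 32, 32, 32, 32, 33, 32, 33, 32, 32, 32, 33, 32] = true := by decide +kernel
theorem c212 : eqW R 0 5 [33] [30, 31, 30, 31, 31, 30, 30, 31, 31, 30, 31, 30, 30, 31, 31] = true := by decide +kernel
theorem c213 : eqW R 5 5 [33] [30, 31, 30, 31, 31, 30, 30, 31, 31, 30, 31, 30, 30, 31, 31] = true := by decide +kernel
theorem c214 : eqW R 10 5 [33] [30, 31, 30, 31, 31, 30, 30, 31, 31, 30, 31, 30, 30, 31, 31] = true := by decide +kernel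
theorem c215 : eqW R 0 5 [32] [31, 30, 30, 31, 30, 31, 31, 31, 30, 31, 31, 31, 31, 30] = true := by decide +kernel
theorem c216 : eqW R 5 5 [32] [31, 30, 30, 31, 30, 31, 31, 31, 30, 31, 31, 31, 31, 30] = true := by decide +kernel
theorem c217 : eqW R 10 5 [32] [31, 30, 30, 31, 30, 31, 31, 31, 30, 31, 31, 31, 31, 30] = true := by decide +kernel
theorem c218 : eqW R 0 5 [31] [29, 29, 28, 29, 29, 29, 28, 28, 28, 29, 29, 28] = true := by decide +kernel
theorem c219 : eqW R 5 5 [31] [29, 29, 28, 29, 29, 29, 28, 28, 28, 29, 29, 28] = true := by decide +kernel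
theorem c220 : eqW R 10 5 [31] [29, 29, 28, 29, 29, 29, 28, 28, 28, 29, 29, 28] = true := by decide +kernel
theorem c221 : eqW R 0 5 [30] [28, 29, 28, 28, 28, 29, 28, 28, 29, 28, 28, 29, 29, 28, 29] = true := by decide +kernel
theorem c222 : eqW R 5 5 [30] [28, 29, 28, 28, 28, 29, 28, 28, 29, 28, 28, 29, 29, 28, 29] = true := by decide +kernel
theorem c223 : eqW R 10 5 [30] [28, 29, 28, 28, 28, 29, 28, 28, 29, 28, 28, 29, 29, 28, 29] = true := by decide +kernel
theorem c224 : eqW R 0 5 [29] [26, 27, 26, 27, 26, 27, 27, 26, 27, 27, 27, 27, 27, 27, 27, 27, 27, 27, 26] = true := by decide +kernel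
theorem c225 : eqW R 5 5 [29] [26, 27, 26, 27, 26, 27, 27, 26, 27, 27, 27, 27, 27, 27, 27, 27, 27, 27, 26] = true := by decide +kernel
theorem c226 : eqW R 10 5 [29] [26, 27, 26, 27, 26, 27, 27, 26, 27, 27, 27, 27, 27, 27, 27, 27, 27, 27, 26] = true := by decide +kernel
theorem c227 : eqW R 0 5 [28] [26, 26, 26, 27, 27, 27, 26, 27, 27, 26, 26, 26, 27, 26, 27, 26, 26, 26, 26, 26, 27] = true := by decide +kernel
theorem c228 : eqW R 5 5 [28] [26, 26, 26, 27, 27, 27, 26, 27, 27, 26, 26, 26, 27, 26, 27, 26, 26, 26, 26, 26, 27] = true := by decide +kernel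
theorem c229 : eqW R 10 5 [28] [26, 26, 26, 27, 27, 27, 26, 27, 27, 26, 26, 26, 27, 26, 27, 26, 26, 26, 26, 26, 27] = true := by decide +kernel
theorem c230 : eqW R 0 5 [27] [24, 24, 23, 25] = true := by decide +kernel
theorem c231 : eqW R 5 5 [27] [24, 24, 23, 25] = true := by decide +kernel
theorem c232 : eqW R 10 5 [27] [24, 24, 23, 25] = true := by decide +kernel
theorem c233 : eqW R 0 5 [26] [23, 25, 24, 23] = true := by decide +kernel
theorem c234 : eqW R 5 5 [26] [23, 25, 24, 23] = true := by decide +kernel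
theorem c235 : eqW R 10 5 [26] [23, 25, 24, 23] = true := by decide +kernel
theorem c236 : eqW R 0 5 [25] [11, 10, 11, 10, 10, 10, 11, 11, 10, 10, 11, 11, 11, 12, 12, 12, 13, 13, 12, 12, 13, 12, 12, 12, 12, 12, 13, 15, 14, 14, 15, 14, 15, 14, 14, 14, 15, 14, 14, 14, 15, 18, 18, 17, 16, 17, 17, 17, 20, 20, 19, 19] = true := by decide +kernel
theorem c237 : eqW R 5 5 [25] [11, 10, 11, 10, 10, 10, 11, 11, 10, 10, 11, 11, 11, 12, 12, 12, 13, 13, 12, 12, 13, 12, 12, 12, 12, 12, 13, 15, 14, 14, 15, 14, 15, 14, 14, 14, 15, 14, 14, 14, 15, 18, 18, 17, 16, 17, 17, 17, 20, 20, 19, 19] = true := by decide +kernel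
theorem c238 : eqW R 10 5 [25] [11, 10, 11, 10, 10, 10, 11, 11, 10, 10, 11, 11, 11, 12, 12, 12, 13, 13, 12, 12, 13, 12, 12, 12, 12, 12, 13, 15, 14, 14, 15, 14, 15, 14, 14, 14, 15, 14, 14, 14, 15, 18, 18, 17, 16, 17, 17, 17, 20, 20, 19, 19] = true := by decide +kernel
theorem c239 : eqW R 0 5 [24] [11, 11, 10, 11, 11, 11, 11, 10, 10, 11, 11, 10, 10, 10, 13, 13, 12, 13, 13, 12, 12, 13, 13, 13, 12, 13, 12, 15, 15, 14, 15, 14, 14, 15, 15, 14, 14, 15, 14, 15, 14, 18, 16, 18, 16, 18, 17, 16, 16, 17, 20] = true := by decide +kernel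
theorem c240 : eqW R 5 5 [24] [11, 11, 10, 11, 11, 11, 11, 10, 10, 11, 11, 10, 10, 10, 13, 13, 12, 13, 13, 12, 12, 13, 13, 13, 12, 13, 12, 15, 15, 14, 15, 14, 14, 15, 15, 14, 14, 15, 14, 15, 14, 18, 16, 18, 16, 18, 17, 16, 16, 17, 20] = true := by decide +kernel
end H0.OFi23
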