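import Cfsg.Agent.H0.OFi23.K0
import Cfsg.Agent.H0.OFi23.K1
import Cfsg.Agent.H0.OFi23.K2
import Cfsg.Agent.H0.OFi23.K3
set_option maxRecDepth 100000
set_option Elab.async false
set_option linter.unusedSectionVars false
namespace H0.OFi23
open H0 BN 
theorem defs_ok : DefsOK R.p defs 23 := (defsOK_cons (eq_of_bits R (eqb_step R (eqb_step R (eqb_step R (eqb_zero R [23] [10, 11, 10, 10, 11, 11, 10, 10, 11, 11, 10, 10, 11, 11, 11, 12, 12, 12, 12, 13, 13, 13, 13, 13, 12, 12, 13, 12, 12, 13, 12, 15, 15, 14, 14, 15, 14, 15, 14, 15, 14, 14, 14, 15, 18, 17, 18, 17, 17, 16, 17, 18, 21, 21, 19]) c242) c243) c244)) (by decide) (defsOK_cons (eq_of_bits R (eqb_step R (eqb_step R (eqb_step R (eqb_zero R [24] [11, 11, 10, 11, 11, 11, 11, 10, 10, 11, 11, 10, 10, 10, 13, 13, 12, 13, 13, 12, 12, 13, 13, 13, 12, 13, 12, 15, 15, 14, 15, 14, 14, 15, 15, 14, 14, 15, 14, 15, 14, 18, 16, 18, 16, 18, 17, 16, 16, 17, 20]) c239) c240) c241)) (by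 decide) (defsOK_cons (eq_of_bits R (eqb_step R (eqb_step R (eqb_step R (eqb_zero R [25] [11, 10, 11, 10, 10, 10, 11, 11, 10, 10, 11, 11, 11, 12, 12, 12, 13, 13, 12, 12, 13, 12, 12, 12, 12, 12, 13, 15, 14, 14, 15, 14, 15, 14, 14, 14, 15, 14, 14, 14, 15, 18, 18, 17, 16, 17, 17, 17, 20, 20, 19, 19]) c236) c237) c238)) (by decide) (defsOK_cons (eq_of_bits R (eqb_step R (eqb_step R (eqb_step R (eqb_zero R [26] [23, 25, 24, 23]) c233) c234) c235)) (by decide) (defsOK_cons (eq_of_bits R (eqb_step R (eqb_step R (eqb_step R (eqb_zero R [27] [24, 24, 23, 25]) c230) c231) c232)) (by decide) (defsOK_cons (eq_of_bits R (eqb_step R (eqb_step R (eqb_step R (eqb_zero R [28] [26, 26, 26, 27, 27, 27, 26, 27, 27, 26, 26, 26, 27, 26, 27, 26, 26, 26, 26, 26, 27]) c227) c228) c229)) (by decide) (defsOK_cons (eq_of_bits R (eqb_step R (eqb_step R (eqb_step R (eqb_zero R [29] [26, 27, 26, 27, 26, 27, 27, 26, 27, 27, 27, 27, 27, 27, 27, 27, 27,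 27, 26]) c224) c225) c226)) (by decide) (defsOK_cons (eq_of_bits R (eqb_step R (eqb_step R (eqb_step R (eqb_zero R [30] [28, 29, 28, 28, 28, 29, 28, 28, 29, 28, 28, 29, 29, 28, 29]) c221) c222) c223)) (by decide) (defsOK_cons (eq_of_bits R (eqb_step R (eqb_step R (eqb_step R (eqb_zero R [31] [29, 29, 28, 29, 29, 29, 28, 28, 28, 29, 29, 28]) c218) c219) c220)) (by decide) (defsOK_cons (eq_of_bits R (eqb_step R (eqb_step R (eqb_step R (eqb_zero R [32] [31, 30, 30, 31, 30, 31, 31, 31, 30, 31, 31, 31, 31, 30]) c215) c216) c217)) (by decide) (defsOK_cons (eq_of_bits R (eqb_step R (eqb_step R (eqb_step R (eqb_zero R [33] [30, 31, 30, 31, 31, 30, 30, 31, 31, 30, 31, 30, 30, 31, 31]) c212) c213) c214)) (by decide) (defsOK_cons (eq_of_bits R (eqb_step R (eqb_step R (eqb_step R (eqb_zero R [34] [32, 32, 32, 32, 32, 33, 32, 33, 32, 32, 32, 33, 32]) c209) c210) c211)) (by decide) (defsOK_cons (eq_of_bits R (eqb_step R (eqb_step R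 (eqb_step R (eqb_zero R [35] [32, 32, 33, 33, 32, 32, 32, 32, 32, 32, 32, 33, 32, 33]) c206) c207) c208)) (by decide) (defsOK_cons (eq_of_bits R (eqb_step R (eqb_step R (eqb_step R (eqb_zero R [36] [35, 34, 35, 34, 35, 34, 35, 34, 35, 34]) c203) c204) c205)) (by decide) (defsOK_cons (eq_of_bits R (eqb_step R (eqb_step R (eqb_step R (eqb_zero R [37] [35, 34, 34, 34, 35, 35, 35, 35, 34, 35]) c200) c201) c202)) (by decide) (defsOK_cons (eq_of_bits R (eqb_step R (eqb_step R (eqb_step R (eqb_zero R [38] [26, 26, 27, 27, 27, 26, 26, 26, 27, 27, 27, 27, 27, 27, 27, 27, 26, 26, 27]) c197) c198) c199)) (by decide) (defsOK_cons (eq_of_bits R (eqb_step R (eqb_step R (eqb_step R (eqb_zero R [39] [26, 27, 26, 26, 26, 26, 27, 27, 26, 26, 26, 27, 26, 27, 27, 26, 26, 27, 27]) c194) c195) c196)) (by decide) (defsOK_cons (eq_of_bits R (eqb_step R (eqb_step R (eqb_step R (eqb_zero R [40] [38, 38, 39, 39, 39, 38, 39, 38, 38, 38, 39]) c191)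 c192) c193)) (by decide) (defsOK_cons (eq_of_bits R (eqb_step R (eqb_step R (eqb_step R (eqb_zero R [41] [39, 38, 39, 38, 38, 38, 39, 39, 39, 38, 39, 38, 39, 39, 38]) c188) c189) c190)) (by decide) (defsOK_cons (eq_of_bits R (eqb_step R (eqb_step R (eqb_step R (eqb_zero R [42] [40, 41, 40, 41, 40, 40, 40, 41, 41]) c185) c186) c187)) (by decide) (defsOK_cons (eq_of_bits R (eqb_step R (eqb_step R (eqb_step R (eqb_zero R [43] [40, 41, 41, 41, 40, 40, 40, 40, 41, 41, 41, 40]) c182) c183) c184)) (by decide) (defsOK_cons (eq_of_bits R (eqb_step R (eqb_step R (eqb_step R (eqb_zero R [44] [43, 43, 42, 42, 42, 42, 42, 43, 43, 43, 43, 42, 43, 43]) c179) c180) c181)) (by decide) (defsOK_cons (eq_of_bits R (eqb_step R (eqb_step R (eqb_step R (eqb_zero R [45] [42, 43, 42, 42, 42, 43, 42, 42, 42, 42, 43, 43, 43]) c176) c177) c178)) (by decide) (defsOK_cons (eq_of_bits R (eqb_step R (eqb_step R (eqb_step R (eqb_zero R [46] [45, 45,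 44, 44, 44, 45, 45, 44, 44, 44, 45, 45, 44, 45, 45, 45, 44, 45, 44]) c173) c174) c175)) (by decide) (defsOK_cons (eq_of_bits R (eqb_step R (eqb_step R (eqb_step R (eqb_zero R [47] [45, 44, 44, 44, 44, 45, 45, 45, 45, 44, 45, 45, 44, 45, 44, 44, 45]) c170) c171) c172)) (by decide) (defsOK_cons (eq_of_bits R (eqb_step R (eqb_step R (eqb_step R (eqb_zero R [48] [44, 45, 45, 44, 45, 44, 44, 44, 44, 45, 44, 45, 45, 44, 44, 44, 45, 44]) c167) c168) c169)) (by decide) (defsOK_cons (eq_of_bits R (eqb_step R (eqb_step R (eqb_step R (eqb_zero R [49] [47, 46, 47, 48, 48, 47, 48, 48, 46, 47, 48, 47, 48]) c164) c165) c166)) (by decide) (defsOK_cons (eq_of_bits R (eqb_step R (eqb_step R (eqb_step R (eqb_zero R [50] [46, 47, 48, 47, 48, 47, 46, 46, 47, 46, 47, 46, 48]) c161) c162) c163)) (by decide) (defsOK_cons (eq_of_bits R (eqb_step R (eqb_step R (eqb_step R (eqb_zero R [51] [46, 48, 47, 47, 46, 47, 46, 48, 47, 48, 47, 46, 46, 46])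 c158) c159) c160)) (by decide) (defsOK_cons (eq_of_bits R (eqb_step R (eqb_step R (eqb_step R (eqb_zero R [52] [49, 49, 51, 50, 49, 50, 51, 51, 49, 50, 50, 49, 51, 50, 51, 50]) c155) c156) c157)) (by decide) (defsOK_cons (eq_of_bits R (eqb_step R (eqb_step R (eqb_step R (eqb_zero R [53] [49, 51, 49, 49, 50, 51, 49, 51, 51, 49, 50, 51, 51, 50]) c152) c153) c154)) (by decide) (defsOK_cons (eq_of_bits R (eqb_step R (eqb_step R (eqb_step R (eqb_zero R [54] [49, 50, 51, 51, 49, 49, 51, 49, 51, 49, 49, 51, 50, 50, 49]) c149) c150) c151)) (by decide) (defsOK_cons (eq_of_bits R (eqb_step R (eqb_step R (eqb_step R (eqb_zero R [55] [53, 52, 54, 54, 54]) c146) c147) c148)) (by decide) (defsOK_cons (eq_of_bits R (eqb_step R (eqb_step R (eqb_step R (eqb_zero R [56] [54, 52, 52, 53]) c143) c144) c145)) (by decide) (defsOK_cons (eq_of_bits R (eqb_step R (eqb_step R (eqb_step R (eqb_zero R [57] [56, 56, 56, 55, 56]) c140) c141) c142))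 (by decide) (defsOK_cons (eq_of_bits R (eqb_step R (eqb_step R (eqb_step R (eqb_zero R [58] [11, 10, 11, 10, 10, 10, 11, 11, 10, 10, 11, 11, 11, 12, 12, 12, 13, 13, 12, 12, 13, 12, 12, 12, 12, 12, 13, 15, 14, 14, 15, 14, 15, 14, 14, 14, 15, 14, 14, 14, 15, 18, 18, 17, 16, 17, 17, 17, 20, 20, 19, 19]) c137) c138) c139)) (by decide) (defsOK_cons (eq_of_bits R (eqb_step R (eqb_step R (eqb_step R (eqb_zero R [59] [11, 10, 10, 11, 11, 10, 10, 10, 10, 10, 11, 10, 10, 10, 12, 12, 13, 12, 12, 12, 12, 13, 13, 12, 12, 12, 12, 13, 12, 12, 14, 14, 14, 15, 14, 14, 15, 14, 14, 15, 14, 17, 17, 18, 18, 18, 18, 18, 16, 21, 20, 20, 19, 19]) c134) c135) c136)) (by decide) (defsOK_nil _ _))))))))))))))))))))))))))))))))))))))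
universe u
variable {G : Type u} [Group G] [Finite G] (m0 : Model G) (h0 : m0.R = H0.MFi23.R)
noncomputable def m : Model G := m0.ext (lg := nat_lit 15) (N := nat_lit 32768) (l := H0.MFi23.nl) h0 nl nl_ok 23 rfl defs defs_ok (by decide +kernel)
theorem mR : (m m0 h0).R = R := rfl
variable (hb : m0.pst [2, 20380, 6320, 1, 0] = ⊥) (hc : Nat.card G = 4089470473293004800)
include h0 hb hc
theorem base : (m m0 h0).pst [2, 20380, 6320, 1, 0] = ⊥ := hb
omit hb hc in
theorem xch_ok : (m m0 h0).ChainOK xch [] := ((m m0 h0).chain_cons [0, 1, 0, 1, 0, 1, 0, 1, 0, 1, 0, 1, 0, 1, 0, 1, 0, 1, 0, 1, 0, 1, 0, 1, 0, 0] (Model.via _ (mR m0 h0) (fun R => Model.fixP R [] [[26], [27]]) c10) (Model.via _ (mR m0 h0) (fun R => Model.growP R [[26], [27]] [0, 1, 0, 1, 0, 1, 0, 1, 0, 1, 0, 1, 0, 1, 0, 1, 0, 1, 0, 1, 0, 1, 0, 1, 0, 0] 5507 31671) c11) ((m m0 h0).chain_cons [0, 1, 0, 1, 0, 1, 0, 1, 0, 1, 0, 1, 0, 1, 0, 1, 0, 1, 0, 1] (Model.via _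 (mR m0 h0) (fun R => Model.fixP R [5507] [[28], [29]]) c8) (Model.via _ (mR m0 h0) (fun R => Model.growP R [[28], [29]] [0, 1, 0, 1, 0, 1, 0, 1, 0, 1, 0, 1, 0, 1, 0, 1, 0, 1, 0, 1] 10733 3510) c9) ((m m0 h0).chain_cons [0, 1, 0, 1, 0, 1, 0, 1, 0, 1, 0, 1, 0, 1, 0, 1, 0, 1, 0, 0] (Model.via _ (mR m0 h0) (fun R => Model.fixP R [10733, 5507] [[30], [31]]) c6) (Model.via _ (mR m0 h0) (fun R => Model.growP R [[30], [31]] [0, 1, 0, 1, 0, 1, 0, 1, 0, 1, 0, 1, 0, 1, 0, 1, 0, 1, 0, 0] 23915 2816) c7) ((m m0 h0).chain_cons [0, 1, 0, 1, 0, 1, 0, 1, 0, 1, 0, 1, 0, 1, 0, 1, 0, 1, 0, 1] (Model.via _ (mR m0 h0) (fun R => Model.fixP R [23915, 10733, 5507] [[32], [33]]) c4) (Model.via _ (mR m0 h0) (fun R => Model.growP R [[32], [33]] [0, 1, 0, 1, 0, 1, 0, 1, 0, 1, 0, 1, 0, 1, 0, 1, 0, 1, 0, 1] 19532 2592) c5) ((m m0 h0).chain_cons [0, 1, 0, 1, 0, 1, 0, 1, 0, 1, 0, 1, 0, 1, 0, 1, 0, 1] (Model.via _ (mR m0 h0) (fun R => Model.fixP R [19532,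 23915, 10733, 5507] [[34], [35]]) c2) (Model.via _ (mR m0 h0) (fun R => Model.growP R [[34], [35]] [0, 1, 0, 1, 0, 1, 0, 1, 0, 1, 0, 1, 0, 1, 0, 1, 0, 1] 17960 1260) c3) ((m m0 h0).chain_cons [0, 1] (Model.via _ (mR m0 h0) (fun R => Model.fixP R [17960, 19532, 23915, 10733, 5507] [[36], [37]]) c0) (Model.via _ (mR m0 h0) (fun R => Model.growP R [[36], [37]] [0, 1] 3743 4) c1) ((m m0 h0).chain_nil _)))))))
theorem xtop : gen (m m0 h0).g (Model.cgens xch) = ⊤ := (m m0 h0).chain_top (xch_ok m0 h0) (hc.trans (by decide +kernel))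
theorem xbdd : (m m0 h0).Bdd := (m m0 h0).bdd_of_top (xtop m0 h0 hb hc)
theorem xot : (m m0 h0).OTOK xOT := ((m m0 h0).otok_cons (xch_ok m0 h0) (hc.trans (by decide +kernel)) 1 rfl (Model.via _ (mR m0 h0) (fun R => Model.invB R (Model.cgens (xch.drop 1)) xO0) c54) ((m m0 h0).otok_cons (xch_ok m0 h0) (hc.trans (by decide +kernel)) 1 rfl (Model.via _ (mR m0 h0) (fun R => Model.invB R (Model.cgens (xch.drop 1)) xO1) c53) ((m m0 h0).otok_cons (xch_ok m0 h0) (hc.trans (by decide +kernel)) 0 rfl (Model.via _ (mR m0 h0) (fun R => Model.invB R (Model.cgens (xch.drop 0)) xO2) c52) (m m0 h0).otok_nil)))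
theorem xcm : ∀ w ∈ xCg, (m m0 h0).Cm [[23]] (ev (m m0 h0).g w) := (m m0 h0).cm_of_pairs (all_take_done (all_take_step (all_take_zero _ (xCg.flatMap fun w => [[23]].map fun y => (w ++ y, y ++ w))) ((m m0 h0).pairs_of (base m0 h0 hb hc) (Model.via _ (mR m0 h0) (fun R => pairsB R [2, 20380, 6320, 1, 0] (((xCg.flatMap fun w => [[23]].map fun y => (w ++ y, y ++ w)).drop 0).take 1)) c55))) (by decide +kernel))
theorem xn1 : (m m0 h0).Sol [[23]] xCg [10171, 1659, 25627, 4587, 1025, 30297, 3743, 17960, 19532, 23915, 10733, 5507] [10171, 1659, 25627, 4587, 1025, 30297, 3743, 17960, 19532, 23915, 10733, 5507] := (m m0 h0).sol_done [6, 7, 8, 9, 10, 11] (((m m0 h0).chain_bot (xch_ok m0 h0) (hc.trans (by decide +kernel))).le.trans bot_le) (by decide +kernel)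
theorem xn0 : (m m0 h0).Sol [[23]] xCg [] [] := (m m0 h0).sol_free (xbdd m0 h0 hb hc) (xcm m0 h0 hb hc) (xot m0 h0 hb hc) ((m m0 h0).excl_zero _ _) (Model.via _ (mR m0 h0) (fun R => freeB R xOT [[23]] xCg [] [] [] [] 5507 0 [([], 5507, 2)] [[0]] [0, 0, 0, 0, 0, 0, 0, 0, 0, 0, 0, 0, 0, 0, 0, 0, 0, 0, 0, 0, 0, 0] xc51) c51) ((m m0 h0).solL_leaves (xot m0 h0 hb hc) [0] (Bc := [10171, 1659, 25627, 4587, 1025, 30297, 3743, 17960, 19532, 23915, 10733, 5507]) (Model.via _ (mR m0 h0) (fun R => cycB R (subst [[23]] [0]) [10171, 1659, 25627, 4587, 1025, 30297, 3743, 17960, 19532, 23915, 10733, 5507]) c12) (Model.via _ (mR m0 h0) (fun R => allL (leafB R xOT (subst [[23]] [0]) [6, 7, 8, 9, 10, 11] [10171, 1659, 25627, 4587, 1025, 30297, 3743, 17960, 19532, 23915, 10733, 5507] [] []) xL50) c50) ((m m0 h0).solL_leaves (xot m0 h0 hb hc) [0] (Bc := [10171, 1659, 25627, 4587, 1025, 30297, 3743, 17960, 19532, 23915, 10733, 5507]) (Model.via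 _ (mR m0 h0) (fun R => cycB R (subst [[23]] [0]) [10171, 1659, 25627, 4587, 1025, 30297, 3743, 17960, 19532, 23915, 10733, 5507]) c12) (Model.via _ (mR m0 h0) (fun R => allL (leafB R xOT (subst [[23]] [0]) [6, 7, 8, 9, 10, 11] [10171, 1659, 25627, 4587, 1025, 30297, 3743, 17960, 19532, 23915, 10733, 5507] [] []) xL49) c49) ((m m0 h0).solL_leaves (xot m0 h0 hb hc) [0] (Bc := [10171, 1659, 25627, 4587, 1025, 30297, 3743, 17960, 19532, 23915, 10733, 5507]) (Model.via _ (mR m0 h0) (fun R => cycB R (subst [[23]] [0]) [10171, 1659, 25627, 4587, 1025, 30297, 3743, 17960, 19532, 23915, 10733, 5507]) c12) (Model.via _ (mR m0 h0) (fun R => allL (leafB R xOT (subst [[23]] [0]) [6, 7, 8, 9, 10, 11] [10171, 1659, 25627, 4587, 1025, 30297, 3743, 17960, 19532, 23915, 10733, 5507] [] []) xL48) c48) ((m m0 h0).solL_leaves (xot m0 h0 hb hc) [0] (Bc := [10171, 1659, 25627, 4587, 1025, 30297, 3743, 17960, 19532, 23915, 10733, 5507]) (Model.via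 _ (mR m0 h0) (fun R => cycB R (subst [[23]] [0]) [10171, 1659, 25627, 4587, 1025, 30297, 3743, 17960, 19532, 23915, 10733, 5507]) c12) (Model.via _ (mR m0 h0) (fun R => allL (leafB R xOT (subst [[23]] [0]) [6, 7, 8, 9, 10, 11] [10171, 1659, 25627, 4587, 1025, 30297, 3743, 17960, 19532, 23915, 10733, 5507] [] []) xL47) c47) ((m m0 h0).solL_leaves (xot m0 h0 hb hc) [0] (Bc := [10171, 1659, 25627, 4587, 1025, 30297, 3743, 17960, 19532, 23915, 10733, 5507]) (Model.via _ (mR m0 h0) (fun R => cycB R (subst [[23]] [0]) [10171, 1659, 25627, 4587, 1025, 30297, 3743, 17960, 19532, 23915, 10733, 5507]) c12) (Model.via _ (mR m0 h0) (fun R => allL (leafB R xOT (subst [[23]] [0]) [6, 7, 8, 9, 10, 11] [10171, 1659, 25627, 4587, 1025, 30297, 3743, 17960, 19532, 23915, 10733, 5507] [] []) xL46) c46) ((m m0 h0).solL_leaves (xot m0 h0 hb hc) [0] (Bc := [10171, 1659, 25627, 4587, 1025, 30297, 3743, 17960, 19532, 23915, 10733, 5507]) (Model.via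 _ (mR m0 h0) (fun R => cycB R (subst [[23]] [0]) [10171, 1659, 25627, 4587, 1025, 30297, 3743, 17960, 19532, 23915, 10733, 5507]) c12) (Model.via _ (mR m0 h0) (fun R => allL (leafB R xOT (subst [[23]] [0]) [6, 7, 8, 9, 10, 11] [10171, 1659, 25627, 4587, 1025, 30297, 3743, 17960, 19532, 23915, 10733, 5507] [] []) xL45) c45) ((m m0 h0).solL_leaves (xot m0 h0 hb hc) [0] (Bc := [10171, 1659, 25627, 4587, 1025, 30297, 3743, 17960, 19532, 23915, 10733, 5507]) (Model.via _ (mR m0 h0) (fun R => cycB R (subst [[23]] [0]) [10171, 1659, 25627, 4587, 1025, 30297, 3743, 17960, 19532, 23915, 10733, 5507]) c12) (Model.via _ (mR m0 h0) (fun R => allL (leafB R xOT (subst [[23]] [0]) [6, 7, 8, 9, 10, 11] [10171, 1659, 25627, 4587, 1025, 30297, 3743, 17960, 19532, 23915, 10733, 5507] [] []) xL44) c44) ((m m0 h0).solL_leaves (xot m0 h0 hb hc) [0] (Bc := [10171, 1659, 25627, 4587, 1025, 30297, 3743, 17960, 19532, 23915, 10733, 5507]) (Model.via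 _ (mR m0 h0) (fun R => cycB R (subst [[23]] [0]) [10171, 1659, 25627, 4587, 1025, 30297, 3743, 17960, 19532, 23915, 10733, 5507]) c12) (Model.via _ (mR m0 h0) (fun R => allL (leafB R xOT (subst [[23]] [0]) [6, 7, 8, 9, 10, 11] [10171, 1659, 25627, 4587, 1025, 30297, 3743, 17960, 19532, 23915, 10733, 5507] [] []) xL43) c43) ((m m0 h0).solL_leaves (xot m0 h0 hb hc) [0] (Bc := [10171, 1659, 25627, 4587, 1025, 30297, 3743, 17960, 19532, 23915, 10733, 5507]) (Model.via _ (mR m0 h0) (fun R => cycB R (subst [[23]] [0]) [10171, 1659, 25627, 4587, 1025, 30297, 3743, 17960, 19532, 23915, 10733, 5507]) c12) (Model.via _ (mR m0 h0) (fun R => allL (leafB R xOT (subst [[23]] [0]) [6, 7, 8, 9, 10, 11] [10171, 1659, 25627, 4587, 1025, 30297, 3743, 17960, 19532, 23915, 10733, 5507] [] []) xL42) c42) ((m m0 h0).solL_leaves (xot m0 h0 hb hc) [0] (Bc := [10171, 1659, 25627, 4587, 1025, 30297, 3743, 17960, 19532, 23915, 10733, 5507]) (Model.via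 _ (mR m0 h0) (fun R => cycB R (subst [[23]] [0]) [10171, 1659, 25627, 4587, 1025, 30297, 3743, 17960, 19532, 23915, 10733, 5507]) c12) (Model.via _ (mR m0 h0) (fun R => allL (leafB R xOT (subst [[23]] [0]) [6, 7, 8, 9, 10, 11] [10171, 1659, 25627, 4587, 1025, 30297, 3743, 17960, 19532, 23915, 10733, 5507] [] []) xL41) c41) ((m m0 h0).solL_leaves (xot m0 h0 hb hc) [0] (Bc := [10171, 1659, 25627, 4587, 1025, 30297, 3743, 17960, 19532, 23915, 10733, 5507]) (Model.via _ (mR m0 h0) (fun R => cycB R (subst [[23]] [0]) [10171, 1659, 25627, 4587, 1025, 30297, 3743, 17960, 19532, 23915, 10733, 5507]) c12) (Model.via _ (mR m0 h0) (fun R => allL (leafB R xOT (subst [[23]] [0]) [6, 7, 8, 9, 10, 11] [10171, 1659, 25627, 4587, 1025, 30297, 3743, 17960, 19532, 23915, 10733, 5507] [] []) xL40) c40) ((m m0 h0).solL_leaves (xot m0 h0 hb hc) [0] (Bc := [10171, 1659, 25627, 4587, 1025, 30297, 3743, 17960, 19532, 23915, 10733, 5507]) (Model.via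 _ (mR m0 h0) (fun R => cycB R (subst [[23]] [0]) [10171, 1659, 25627, 4587, 1025, 30297, 3743, 17960, 19532, 23915, 10733, 5507]) c12) (Model.via _ (mR m0 h0) (fun R => allL (leafB R xOT (subst [[23]] [0]) [6, 7, 8, 9, 10, 11] [10171, 1659, 25627, 4587, 1025, 30297, 3743, 17960, 19532, 23915, 10733, 5507] [] []) xL39) c39) ((m m0 h0).solL_leaves (xot m0 h0 hb hc) [0] (Bc := [10171, 1659, 25627, 4587, 1025, 30297, 3743, 17960, 19532, 23915, 10733, 5507]) (Model.via _ (mR m0 h0) (fun R => cycB R (subst [[23]] [0]) [10171, 1659, 25627, 4587, 1025, 30297, 3743, 17960, 19532, 23915, 10733, 5507]) c12) (Model.via _ (mR m0 h0) (fun R => allL (leafB R xOT (subst [[23]] [0]) [6, 7, 8, 9, 10, 11] [10171, 1659, 25627, 4587, 1025, 30297, 3743, 17960, 19532, 23915, 10733, 5507] [] []) xL38) c38) ((m m0 h0).solL_leaves (xot m0 h0 hb hc) [0] (Bc := [10171, 1659, 25627, 4587, 1025, 30297, 3743, 17960, 19532, 23915, 10733, 5507]) (Model.via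 _ (mR m0 h0) (fun R => cycB R (subst [[23]] [0]) [10171, 1659, 25627, 4587, 1025, 30297, 3743, 17960, 19532, 23915, 10733, 5507]) c12) (Model.via _ (mR m0 h0) (fun R => allL (leafB R xOT (subst [[23]] [0]) [6, 7, 8, 9, 10, 11] [10171, 1659, 25627, 4587, 1025, 30297, 3743, 17960, 19532, 23915, 10733, 5507] [] []) xL37) c37) ((m m0 h0).solL_leaves (xot m0 h0 hb hc) [0] (Bc := [10171, 1659, 25627, 4587, 1025, 30297, 3743, 17960, 19532, 23915, 10733, 5507]) (Model.via _ (mR m0 h0) (fun R => cycB R (subst [[23]] [0]) [10171, 1659, 25627, 4587, 1025, 30297, 3743, 17960, 19532, 23915, 10733, 5507]) c12) (Model.via _ (mR m0 h0) (fun R => allL (leafB R xOT (subst [[23]] [0]) [6, 7, 8, 9, 10, 11] [10171, 1659, 25627, 4587, 1025, 30297, 3743, 17960, 19532, 23915, 10733, 5507] [] []) xL36) c36) ((m m0 h0).solL_leaves (xot m0 h0 hb hc) [0] (Bc := [10171, 1659, 25627, 4587, 1025, 30297, 3743, 17960, 19532, 23915, 10733, 5507]) (Model.via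 _ (mR m0 h0) (fun R => cycB R (subst [[23]] [0]) [10171, 1659, 25627, 4587, 1025, 30297, 3743, 17960, 19532, 23915, 10733, 5507]) c12) (Model.via _ (mR m0 h0) (fun R => allL (leafB R xOT (subst [[23]] [0]) [6, 7, 8, 9, 10, 11] [10171, 1659, 25627, 4587, 1025, 30297, 3743, 17960, 19532, 23915, 10733, 5507] [] []) xL35) c35) ((m m0 h0).solL_leaves (xot m0 h0 hb hc) [0] (Bc := [10171, 1659, 25627, 4587, 1025, 30297, 3743, 17960, 19532, 23915, 10733, 5507]) (Model.via _ (mR m0 h0) (fun R => cycB R (subst [[23]] [0]) [10171, 1659, 25627, 4587, 1025, 30297, 3743, 17960, 19532, 23915, 10733, 5507]) c12) (Model.via _ (mR m0 h0) (fun R => allL (leafB R xOT (subst [[23]] [0]) [6, 7, 8, 9, 10, 11] [10171, 1659, 25627, 4587, 1025, 30297, 3743, 17960, 19532, 23915, 10733, 5507] [] []) xL34) c34) ((m m0 h0).solL_leaves (xot m0 h0 hb hc) [0] (Bc := [10171, 1659, 25627, 4587, 1025, 30297, 3743, 17960, 19532, 23915, 10733, 5507]) (Model.via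 _ (mR m0 h0) (fun R => cycB R (subst [[23]] [0]) [10171, 1659, 25627, 4587, 1025, 30297, 3743, 17960, 19532, 23915, 10733, 5507]) c12) (Model.via _ (mR m0 h0) (fun R => allL (leafB R xOT (subst [[23]] [0]) [6, 7, 8, 9, 10, 11] [10171, 1659, 25627, 4587, 1025, 30297, 3743, 17960, 19532, 23915, 10733, 5507] [] []) xL33) c33) ((m m0 h0).solL_leaves (xot m0 h0 hb hc) [0] (Bc := [10171, 1659, 25627, 4587, 1025, 30297, 3743, 17960, 19532, 23915, 10733, 5507]) (Model.via _ (mR m0 h0) (fun R => cycB R (subst [[23]] [0]) [10171, 1659, 25627, 4587, 1025, 30297, 3743, 17960, 19532, 23915, 10733, 5507]) c12) (Model.via _ (mR m0 h0) (fun R => allL (leafB R xOT (subst [[23]] [0]) [6, 7, 8, 9, 10, 11] [10171, 1659, 25627, 4587, 1025, 30297, 3743, 17960, 19532, 23915, 10733, 5507] [] []) xL32) c32) ((m m0 h0).solL_leaves (xot m0 h0 hb hc) [0] (Bc := [10171, 1659, 25627, 4587, 1025, 30297, 3743, 17960, 19532, 23915, 10733, 5507]) (Model.via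 _ (mR m0 h0) (fun R => cycB R (subst [[23]] [0]) [10171, 1659, 25627, 4587, 1025, 30297, 3743, 17960, 19532, 23915, 10733, 5507]) c12) (Model.via _ (mR m0 h0) (fun R => allL (leafB R xOT (subst [[23]] [0]) [6, 7, 8, 9, 10, 11] [10171, 1659, 25627, 4587, 1025, 30297, 3743, 17960, 19532, 23915, 10733, 5507] [] []) xL31) c31) ((m m0 h0).solL_leaves (xot m0 h0 hb hc) [0] (Bc := [10171, 1659, 25627, 4587, 1025, 30297, 3743, 17960, 19532, 23915, 10733, 5507]) (Model.via _ (mR m0 h0) (fun R => cycB R (subst [[23]] [0]) [10171, 1659, 25627, 4587, 1025, 30297, 3743, 17960, 19532, 23915, 10733, 5507]) c12) (Model.via _ (mR m0 h0) (fun R => allL (leafB R xOT (subst [[23]] [0]) [6, 7, 8, 9, 10, 11] [10171, 1659, 25627, 4587, 1025, 30297, 3743, 17960, 19532, 23915, 10733, 5507] [] []) xL30) c30) ((m m0 h0).solL_leaves (xot m0 h0 hb hc) [0] (Bc := [10171, 1659, 25627, 4587, 1025, 30297, 3743, 17960, 19532, 23915, 10733, 5507]) (Model.via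 _ (mR m0 h0) (fun R => cycB R (subst [[23]] [0]) [10171, 1659, 25627, 4587, 1025, 30297, 3743, 17960, 19532, 23915, 10733, 5507]) c12) (Model.via _ (mR m0 h0) (fun R => allL (leafB R xOT (subst [[23]] [0]) [6, 7, 8, 9, 10, 11] [10171, 1659, 25627, 4587, 1025, 30297, 3743, 17960, 19532, 23915, 10733, 5507] [] []) xL29) c29) ((m m0 h0).solL_leaves (xot m0 h0 hb hc) [0] (Bc := [10171, 1659, 25627, 4587, 1025, 30297, 3743, 17960, 19532, 23915, 10733, 5507]) (Model.via _ (mR m0 h0) (fun R => cycB R (subst [[23]] [0]) [10171, 1659, 25627, 4587, 1025, 30297, 3743, 17960, 19532, 23915, 10733, 5507]) c12) (Model.via _ (mR m0 h0) (fun R => allL (leafB R xOT (subst [[23]] [0]) [6, 7, 8, 9, 10, 11] [10171, 1659, 25627, 4587, 1025, 30297, 3743, 17960, 19532, 23915, 10733, 5507] [] []) xL28) c28) ((m m0 h0).solL_leaves (xot m0 h0 hb hc) [0] (Bc := [10171, 1659, 25627, 4587, 1025, 30297, 3743, 17960, 19532, 23915, 10733, 5507]) (Model.via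 _ (mR m0 h0) (fun R => cycB R (subst [[23]] [0]) [10171, 1659, 25627, 4587, 1025, 30297, 3743, 17960, 19532, 23915, 10733, 5507]) c12) (Model.via _ (mR m0 h0) (fun R => allL (leafB R xOT (subst [[23]] [0]) [6, 7, 8, 9, 10, 11] [10171, 1659, 25627, 4587, 1025, 30297, 3743, 17960, 19532, 23915, 10733, 5507] [] []) xL27) c27) ((m m0 h0).solL_leaves (xot m0 h0 hb hc) [0] (Bc := [10171, 1659, 25627, 4587, 1025, 30297, 3743, 17960, 19532, 23915, 10733, 5507]) (Model.via _ (mR m0 h0) (fun R => cycB R (subst [[23]] [0]) [10171, 1659, 25627, 4587, 1025, 30297, 3743, 17960, 19532, 23915, 10733, 5507]) c12) (Model.via _ (mR m0 h0) (fun R => allL (leafB R xOT (subst [[23]] [0]) [6, 7, 8, 9, 10, 11] [10171, 1659, 25627, 4587, 1025, 30297, 3743, 17960, 19532, 23915, 10733, 5507] [] []) xL26) c26) ((m m0 h0).solL_leaves (xot m0 h0 hb hc) [0] (Bc := [10171, 1659, 25627, 4587, 1025, 30297, 3743, 17960, 19532, 23915, 10733, 5507]) (Model.via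 _ (mR m0 h0) (fun R => cycB R (subst [[23]] [0]) [10171, 1659, 25627, 4587, 1025, 30297, 3743, 17960, 19532, 23915, 10733, 5507]) c12) (Model.via _ (mR m0 h0) (fun R => allL (leafB R xOT (subst [[23]] [0]) [6, 7, 8, 9, 10, 11] [10171, 1659, 25627, 4587, 1025, 30297, 3743, 17960, 19532, 23915, 10733, 5507] [] []) xL25) c25) ((m m0 h0).solL_leaves (xot m0 h0 hb hc) [0] (Bc := [10171, 1659, 25627, 4587, 1025, 30297, 3743, 17960, 19532, 23915, 10733, 5507]) (Model.via _ (mR m0 h0) (fun R => cycB R (subst [[23]] [0]) [10171, 1659, 25627, 4587, 1025, 30297, 3743, 17960, 19532, 23915, 10733, 5507]) c12) (Model.via _ (mR m0 h0) (fun R => allL (leafB R xOT (subst [[23]] [0]) [6, 7, 8, 9, 10, 11] [10171, 1659, 25627, 4587, 1025, 30297, 3743, 17960, 19532, 23915, 10733, 5507] [] []) xL24) c24) ((m m0 h0).solL_leaves (xot m0 h0 hb hc) [0] (Bc := [10171, 1659, 25627, 4587, 1025, 30297, 3743, 17960, 19532, 23915, 10733, 5507]) (Model.via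 _ (mR m0 h0) (fun R => cycB R (subst [[23]] [0]) [10171, 1659, 25627, 4587, 1025, 30297, 3743, 17960, 19532, 23915, 10733, 5507]) c12) (Model.via _ (mR m0 h0) (fun R => allL (leafB R xOT (subst [[23]] [0]) [6, 7, 8, 9, 10, 11] [10171, 1659, 25627, 4587, 1025, 30297, 3743, 17960, 19532, 23915, 10733, 5507] [] []) xL23) c23) ((m m0 h0).solL_leaves (xot m0 h0 hb hc) [0] (Bc := [10171, 1659, 25627, 4587, 1025, 30297, 3743, 17960, 19532, 23915, 10733, 5507]) (Model.via _ (mR m0 h0) (fun R => cycB R (subst [[23]] [0]) [10171, 1659, 25627, 4587, 1025, 30297, 3743, 17960, 19532, 23915, 10733, 5507]) c12) (Model.via _ (mR m0 h0) (fun R => allL (leafB R xOT (subst [[23]] [0]) [6, 7, 8, 9, 10, 11] [10171, 1659, 25627, 4587, 1025, 30297, 3743, 17960, 19532, 23915, 10733, 5507] [] []) xL22) c22) ((m m0 h0).solL_leaves (xot m0 h0 hb hc) [0] (Bc := [10171, 1659, 25627, 4587, 1025, 30297, 3743, 17960, 19532, 23915, 10733, 5507]) (Model.via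 _ (mR m0 h0) (fun R => cycB R (subst [[23]] [0]) [10171, 1659, 25627, 4587, 1025, 30297, 3743, 17960, 19532, 23915, 10733, 5507]) c12) (Model.via _ (mR m0 h0) (fun R => allL (leafB R xOT (subst [[23]] [0]) [6, 7, 8, 9, 10, 11] [10171, 1659, 25627, 4587, 1025, 30297, 3743, 17960, 19532, 23915, 10733, 5507] [] []) xL21) c21) ((m m0 h0).solL_leaves (xot m0 h0 hb hc) [0] (Bc := [10171, 1659, 25627, 4587, 1025, 30297, 3743, 17960, 19532, 23915, 10733, 5507]) (Model.via _ (mR m0 h0) (fun R => cycB R (subst [[23]] [0]) [10171, 1659, 25627, 4587, 1025, 30297, 3743, 17960, 19532, 23915, 10733, 5507]) c12) (Model.via _ (mR m0 h0) (fun R => allL (leafB R xOT (subst [[23]] [0]) [6, 7, 8, 9, 10, 11] [10171, 1659, 25627, 4587, 1025, 30297, 3743, 17960, 19532, 23915, 10733, 5507] [] []) xL20) c20) ((m m0 h0).solL_leaves (xot m0 h0 hb hc) [0] (Bc := [10171, 1659, 25627, 4587, 1025, 30297, 3743, 17960, 19532, 23915, 10733, 5507]) (Model.via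 _ (mR m0 h0) (fun R => cycB R (subst [[23]] [0]) [10171, 1659, 25627, 4587, 1025, 30297, 3743, 17960, 19532, 23915, 10733, 5507]) c12) (Model.via _ (mR m0 h0) (fun R => allL (leafB R xOT (subst [[23]] [0]) [6, 7, 8, 9, 10, 11] [10171, 1659, 25627, 4587, 1025, 30297, 3743, 17960, 19532, 23915, 10733, 5507] [] []) xL19) c19) ((m m0 h0).solL_leaves (xot m0 h0 hb hc) [0] (Bc := [10171, 1659, 25627, 4587, 1025, 30297, 3743, 17960, 19532, 23915, 10733, 5507]) (Model.via _ (mR m0 h0) (fun R => cycB R (subst [[23]] [0]) [10171, 1659, 25627, 4587, 1025, 30297, 3743, 17960, 19532, 23915, 10733, 5507]) c12) (Model.via _ (mR m0 h0) (fun R => allL (leafB R xOT (subst [[23]] [0]) [6, 7, 8, 9, 10, 11] [10171, 1659, 25627, 4587, 1025, 30297, 3743, 17960, 19532, 23915, 10733, 5507] [] []) xL18) c18) ((m m0 h0).solL_leaves (xot m0 h0 hb hc) [0] (Bc := [10171, 1659, 25627, 4587, 1025, 30297, 3743, 17960, 19532, 23915, 10733, 5507]) (Model.via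 _ (mR m0 h0) (fun R => cycB R (subst [[23]] [0]) [10171, 1659, 25627, 4587, 1025, 30297, 3743, 17960, 19532, 23915, 10733, 5507]) c12) (Model.via _ (mR m0 h0) (fun R => allL (leafB R xOT (subst [[23]] [0]) [6, 7, 8, 9, 10, 11] [10171, 1659, 25627, 4587, 1025, 30297, 3743, 17960, 19532, 23915, 10733, 5507] [] []) xL17) c17) ((m m0 h0).solL_leaves (xot m0 h0 hb hc) [0] (Bc := [10171, 1659, 25627, 4587, 1025, 30297, 3743, 17960, 19532, 23915, 10733, 5507]) (Model.via _ (mR m0 h0) (fun R => cycB R (subst [[23]] [0]) [10171, 1659, 25627, 4587, 1025, 30297, 3743, 17960, 19532, 23915, 10733, 5507]) c12) (Model.via _ (mR m0 h0) (fun R => allL (leafB R xOT (subst [[23]] [0]) [6, 7, 8, 9, 10, 11] [10171, 1659, 25627, 4587, 1025, 30297, 3743, 17960, 19532, 23915, 10733, 5507] [] []) xL16) c16) ((m m0 h0).solL_leaves (xot m0 h0 hb hc) [0] (Bc := [10171, 1659, 25627, 4587, 1025, 30297, 3743, 17960, 19532, 23915, 10733, 5507]) (Model.via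 _ (mR m0 h0) (fun R => cycB R (subst [[23]] [0]) [10171, 1659, 25627, 4587, 1025, 30297, 3743, 17960, 19532, 23915, 10733, 5507]) c12) (Model.via _ (mR m0 h0) (fun R => allL (leafB R xOT (subst [[23]] [0]) [6, 7, 8, 9, 10, 11] [10171, 1659, 25627, 4587, 1025, 30297, 3743, 17960, 19532, 23915, 10733, 5507] [] []) xL15) c15) ((m m0 h0).solL_leaves (xot m0 h0 hb hc) [0] (Bc := [10171, 1659, 25627, 4587, 1025, 30297, 3743, 17960, 19532, 23915, 10733, 5507]) (Model.via _ (mR m0 h0) (fun R => cycB R (subst [[23]] [0]) [10171, 1659, 25627, 4587, 1025, 30297, 3743, 17960, 19532, 23915, 10733, 5507]) c12) (Model.via _ (mR m0 h0) (fun R => allL (leafB R xOT (subst [[23]] [0]) [6, 7, 8, 9, 10, 11] [10171, 1659, 25627, 4587, 1025, 30297, 3743, 17960, 19532, 23915, 10733, 5507] [] []) xL14) c14) ((m m0 h0).solL_cons ((m m0 h0).sol_cyc [0] (Bc := [10171, 1659, 25627, 4587, 1025, 30297, 3743, 17960, 19532, 23915, 10733, 5507]) (T :=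 [10171, 1659, 25627, 4587, 1025, 30297, 3743, 17960, 19532, 23915, 10733, 5507]) rfl (Model.via _ (mR m0 h0) (fun R => cycB R (subst [[23]] [0]) [10171, 1659, 25627, 4587, 1025, 30297, 3743, 17960, 19532, 23915, 10733, 5507]) c12) (Model.via _ (mR m0 h0) (fun R => cycB R (subst [[23]] [0]) [10171, 1659, 25627, 4587, 1025, 30297, 3743, 17960, 19532, 23915, 10733, 5507]) c13) (xn1 m0 h0 hb hc)) (m m0 h0).solL_nil))))))))))))))))))))))))))))))))))))))
theorem xsol : (m m0 h0).Sol [[23]] xCg [] [] := xn0 m0 h0 hb hc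
omit hb hc in
theorem ych_ok : (m m0 h0).ChainOK ych [] := ((m m0 h0).chain_cons [0, 1, 0, 1, 0, 1, 0, 1, 0, 1, 0, 1, 0, 1, 0, 1, 0, 1, 0, 1, 0, 1, 0, 1, 0, 0] (Model.via _ (mR m0 h0) (fun R => Model.fixP R [] [[26], [27]]) c74) (Model.via _ (mR m0 h0) (fun R => Model.growP R [[26], [27]] [0, 1, 0, 1, 0, 1, 0, 1, 0, 1, 0, 1, 0, 1, 0, 1, 0, 1, 0, 1, 0, 1, 0, 1, 0, 0] 6106 31671) c75) ((m m0 h0).chain_cons [0, 1, 0, 1, 0, 1, 0, 1, 0, 1, 0, 1, 0, 1, 0, 1, 0, 1, 0, 0, 0] (Model.via _ (mR m0 h0) (fun R => Model.fixP R [6106] [[38], [39]]) c72) (Model.via _ (mR m0 h0) (fun R => Model.growP R [[38], [39]] [0, 1, 0, 1, 0, 1, 0, 1, 0, 1, 0, 1, 0, 1, 0, 1, 0, 1, 0, 0, 0] 10818 3510) c73) ((m m0 h0).chain_cons [0, 1, 0, 1, 0, 1, 0, 1, 0, 1, 0, 1, 0, 1, 0, 1, 0] (Model.via _ (mR m0 h0) (fun R => Model.fixP R [10818, 6106] [[40], [41]]) c70) (Model.via _ (mR m0 h0) (fun R => Model.growP R [[40], [41]] [0, 1, 0, 1, 0, 1, 0, 1, 0, 1,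 0, 1, 0, 1, 0, 1, 0] 3439 693) c71) ((m m0 h0).chain_cons [0, 1, 0, 1, 0, 1, 0, 1, 0, 1, 0, 1, 0, 1, 0, 1] (Model.via _ (mR m0 h0) (fun R => Model.fixP R [3439, 10818, 6106] [[42], [43]]) c68) (Model.via _ (mR m0 h0) (fun R => Model.growP R [[42], [43]] [0, 1, 0, 1, 0, 1, 0, 1, 0, 1, 0, 1, 0, 1, 0, 1] 10245 512) c69) ((m m0 h0).chain_cons [0, 1, 0, 1, 0, 1, 0, 1, 0, 1, 0, 0] (Model.via _ (mR m0 h0) (fun R => Model.fixP R [10245, 3439, 10818, 6106] [[44], [45]]) c66) (Model.via _ (mR m0 h0) (fun R => Model.growP R [[44], [45]] [0, 1, 0, 1, 0, 1, 0, 1, 0, 1, 0, 0] 23185 135) c67) ((m m0 h0).chain_cons [0, 1, 2, 0, 1, 2, 1, 0] (Model.via _ (mR m0 h0) (fun R => Model.fixP R [23185, 10245, 3439, 10818, 6106] [[46], [47], [48]]) c64) (Model.via _ (mR m0 h0) (fun R => Model.growP R [[46], [47], [48]] [0, 1, 2, 0, 1, 2, 1, 0] 25943 32) c65) ((m m0 h0).chain_cons [0, 0] (Model.via _ (mR m0 h0) (fun R => Model.fixP R [25943, 23185,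 10245, 3439, 10818, 6106] [[49], [50], [51]]) c62) (Model.via _ (mR m0 h0) (fun R => Model.growP R [[49], [50], [51]] [0, 0] 4878 3) c63) ((m m0 h0).chain_cons [1] (Model.via _ (mR m0 h0) (fun R => Model.fixP R [4878, 25943, 23185, 10245, 3439, 10818, 6106] [[52], [53], [54]]) c60) (Model.via _ (mR m0 h0) (fun R => Model.growP R [[52], [53], [54]] [1] 21545 2) c61) ((m m0 h0).chain_cons [1] (Model.via _ (mR m0 h0) (fun R => Model.fixP R [21545, 4878, 25943, 23185, 10245, 3439, 10818, 6106] [[55], [56]]) c58) (Model.via _ (mR m0 h0) (fun R => Model.growP R [[55], [56]] [1] 1 2) c59) ((m m0 h0).chain_cons [0] (Model.via _ (mR m0 h0) (fun R => Model.fixP R [1, 21545, 4878, 25943, 23185, 10245, 3439, 10818, 6106] [[57]]) c56) (Model.via _ (mR m0 h0) (fun R => Model.growP R [[57]] [0] 0 2) c57) ((m m0 h0).chain_nil _)))))))))))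
theorem ytop : gen (m m0 h0).g (Model.cgens ych) = ⊤ := (m m0 h0).chain_top (ych_ok m0 h0) (hc.trans (by decide +kernel))
theorem ybdd : (m m0 h0).Bdd := (m m0 h0).bdd_of_top (ytop m0 h0 hb hc)
theorem yot : (m m0 h0).OTOK yOT := ((m m0 h0).otok_cons (ych_ok m0 h0) (hc.trans (by decide +kernel)) 9 rfl (Model.via _ (mR m0 h0) (fun R => Model.invB R (Model.cgens (ych.drop 9)) yO0) c115) ((m m0 h0).otok_cons (ych_ok m0 h0) (hc.trans (by decide +kernel)) 8 rfl (Model.via _ (mR m0 h0) (fun R => Model.invB R (Model.cgens (ych.drop 8)) yO1) c114) ((m m0 h0).otok_cons (ych_ok m0 h0) (hc.trans (by decide +kernel)) 3 rfl (Model.via _ (mR m0 h0) (fun R => Model.invB R (Model.cgens (ych.drop 3)) yO2) c113) ((m m0 h0).otok_cons (ych_ok m0 h0) (hc.trans (by decide +kernel)) 4 rfl (Model.via _ (mR m0 h0) (fun R => Model.invB R (Model.cgens (ych.drop 4)) yO3) c112) ((m m0 h0).otok_cons (ych_ok m0 h0) (hc.trans (by decide +kernel)) 4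 rfl (Model.via _ (mR m0 h0) (fun R => Model.invB R (Model.cgens (ych.drop 4)) yO4) c111) ((m m0 h0).otok_cons (ych_ok m0 h0) (hc.trans (by decide +kernel)) 6 rfl (Model.via _ (mR m0 h0) (fun R => Model.invB R (Model.cgens (ych.drop 6)) yO5) c110) ((m m0 h0).otok_cons (ych_ok m0 h0) (hc.trans (by decide +kernel)) 2 rfl (Model.via _ (mR m0 h0) (fun R => Model.invB R (Model.cgens (ych.drop 2)) yO6) c109) ((m m0 h0).otok_cons (ych_ok m0 h0) (hc.trans (by decide +kernel)) 1 rfl (Model.via _ (mR m0 h0) (fun R => Model.invB R (Model.cgens (ych.drop 1)) yO7) c108) ((m m0 h0).otok_cons (ych_ok m0 h0) (hc.trans (by decide +kernel)) 0 rfl (Model.via _ (mR m0 h0) (fun R => Model.invB R (Model.cgens (ych.drop 0)) yO8) c107) (m m0 h0).otok_nil)))))))))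
theorem ycm : ∀ w ∈ yCg, (m m0 h0).Cm [[24]] (ev (m m0 h0).g w) := (m m0 h0).cm_of_pairs (all_take_done (all_take_step (all_take_zero _ (yCg.flatMap fun w => [[24]].map fun y => (w ++ y, y ++ w))) ((m m0 h0).pairs_of (base m0 h0 hb hc) (Model.via _ (mR m0 h0) (fun R => pairsB R [2, 20380, 6320, 1, 0] (((yCg.flatMap fun w => [[24]].map fun y => (w ++ y, y ++ w)).drop 0).take 3)) c116))) (by decide +kernel))
theorem yn5 : (m m0 h0).Sol [[24]] yCg [0, 1, 21545, 4878, 25943, 23185, 10245, 3439, 10818, 6106] [0, 1, 21545, 4878, 25943, 23185, 10245, 3439, 10818, 6106] := (m m0 h0).sol_done [0, 1, 2, 3, 4, 5, 6, 7, 8, 9] (((m m0 h0).chain_bot (ych_ok m0 h0) (hc.trans (by decide +kernel))).le.trans bot_le) (by decide +kernel)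
theorem yn4 : (m m0 h0).Sol [[24]] yCg [1, 21545, 4878, 25943, 23185, 10245, 3439, 10818, 6106] [1, 21545, 4878, 25943, 23185, 10245, 3439, 10818, 6106] := (m m0 h0).sol_free (ybdd m0 h0 hb hc) (ycm m0 h0 hb hc) (yot m0 h0 hb hc) ((m m0 h0).excl_zero _ _) (Model.via _ (mR m0 h0) (fun R => freeB R yOT [[24]] yCg [0, 1, 2, 3, 4, 5, 6, 7, 8] [1, 21545, 4878, 25943, 23185, 10245, 3439, 10818, 6106] [1, 21545, 4878, 25943, 23185, 10245, 3439, 10818, 6106] [] 0 0 [([], 0, 0)] [[1]] [0] yc82) c82) ((m m0 h0).solL_cons ((m m0 h0).sol_cyc [] (Bc := [0]) (T := [0]) rfl (Model.via _ (mR m0 h0) (fun R => cycB R (subst [[24]] []) [0]) c80) (Model.via _ (mR m0 h0) (fun R => cycB R (subst [[24]] []) [0]) c81) (yn5 m0 h0 hb hc)) (m m0 h0).solL_nil)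
theorem yn3 : (m m0 h0).Sol [[24]] yCg [21545, 4878, 25943, 23185, 10245, 3439, 10818, 6106] [21545, 4878, 25943, 23185, 10245, 3439, 10818, 6106] := (m m0 h0).sol_free (ybdd m0 h0 hb hc) (ycm m0 h0 hb hc) (yot m0 h0 hb hc) ((m m0 h0).excl_zero _ _) (Model.via _ (mR m0 h0) (fun R => freeB R yOT [[24]] yCg [0, 1, 2, 3, 4, 5, 6, 7] [21545, 4878, 25943, 23185, 10245, 3439, 10818, 6106] [21545, 4878, 25943, 23185, 10245, 3439, 10818, 6106] [] 1 0 [([], 1, 1)] [[1], [2]] [1] yc84) c84) ((m m0 h0).solL_cons ((m m0 h0).sol_cyc [] (Bc := [1]) (T := [1]) rfl (Model.via _ (mR m0 h0) (fun R => cycB R (subst [[24]] []) [1]) c79) (Model.via _ (mR m0 h0) (fun R => cycB R (subst [[24]] []) [1]) c83) (yn4 m0 h0 hb hc)) (m m0 h0).solL_nil)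
theorem yn2 : (m m0 h0).Sol [[24]] yCg [10818, 6106] [10818, 6106] := (m m0 h0).sol_free (ybdd m0 h0 hb hc) (ycm m0 h0 hb hc) (yot m0 h0 hb hc) ((m m0 h0).excl_zero _ _) (Model.via _ (mR m0 h0) (fun R => freeB R yOT [[24]] yCg [0, 1] [10818, 6106] [10818, 6106] [] 3439 0 [([], 3439, 6)] [[0], [1], [2]] [0, 0, 0, 0, 0, 0, 0, 0, 0, 0] yc89) c89) ((m m0 h0).solL_leaves (yot m0 h0 hb hc) [0] (Bc := [21545, 4878, 25943, 23185, 10245, 3439]) (Model.via _ (mR m0 h0) (fun R => cycB R (subst [[24]] [0]) [21545, 4878, 25943, 23185, 10245, 3439]) c78) (Model.via _ (mR m0 h0) (fun R => allL (leafB R yOT (subst [[24]] [0]) [0, 1, 2, 3, 4, 5, 6, 7] [21545, 4878, 25943, 23185, 10245, 3439] [10818, 6106] [10818, 6106]) yL88) c88) ((m m0 h0).solL_leaves (yot m0 h0 hb hc) [0] (Bc := [21545, 4878, 25943, 23185, 10245, 3439]) (Model.via _ (mR m0 h0) (fun R => cycB R (subst [[24]] [0]) [21545, 4878, 25943, 23185, 10245, 3439]) c78) (Model.via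 _ (mR m0 h0) (fun R => allL (leafB R yOT (subst [[24]] [0]) [0, 1, 2, 3, 4, 5, 6, 7] [21545, 4878, 25943, 23185, 10245, 3439] [10818, 6106] [10818, 6106]) yL87) c87) ((m m0 h0).solL_leaves (yot m0 h0 hb hc) [0] (Bc := [21545, 4878, 25943, 23185, 10245, 3439]) (Model.via _ (mR m0 h0) (fun R => cycB R (subst [[24]] [0]) [21545, 4878, 25943, 23185, 10245, 3439]) c78) (Model.via _ (mR m0 h0) (fun R => allL (leafB R yOT (subst [[24]] [0]) [0, 1, 2, 3, 4, 5, 6, 7] [21545, 4878, 25943, 23185, 10245, 3439] [10818, 6106] [10818, 6106]) yL86) c86) ((m m0 h0).solL_cons ((m m0 h0).sol_cyc [0] (Bc := [21545, 4878, 25943, 23185, 10245, 3439]) (T := [21545, 4878, 25943, 23185, 10245, 3439]) rfl (Model.via _ (mR m0 h0) (fun R => cycB R (subst [[24]] [0]) [21545, 4878, 25943, 23185, 10245, 3439]) c78) (Model.via _ (mR m0 h0) (fun R => cycB R (subst [[24]] [0]) [21545, 4878, 25943, 23185, 10245, 3439]) c85) (yn3 m0 h0 hb hc)) (m m0 h0).solL_nil))))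
theorem yn1 : (m m0 h0).Sol [[24]] yCg [6106] [6106] := (m m0 h0).sol_free (ybdd m0 h0 hb hc) (ycm m0 h0 hb hc) (yot m0 h0 hb hc) ((m m0 h0).excl_mov (ybdd m0 h0 hb hc) [0] (Model.via _ (mR m0 h0) (fun R => exclB R (subst [[24]] [0]) 10818 yD1) c91)) (Model.via _ (mR m0 h0) (fun R => freeB R yOT [[24]] yCg [0] [6106] [6106] [] 10818 yD1 [([], 10818, 7)] [[0], [1], [2]] [] yc92) c92) ((m m0 h0).solL_cons ((m m0 h0).sol_cyc [] (Bc := [10818]) (T := [10818]) rfl (Model.via _ (mR m0 h0) (fun R => cycB R (subst [[24]] []) [10818]) c77) (Model.via _ (mR m0 h0) (fun R => cycB R (subst [[24]] []) [10818]) c90) (yn2 m0 h0 hb hc)) (m m0 h0).solL_nil)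
theorem yn7 : (m m0 h0).Sol [[24]] yCg [10818, 6106] [6106, 10818] := (m m0 h0).sol_free (ybdd m0 h0 hb hc) (ycm m0 h0 hb hc) (yot m0 h0 hb hc) ((m m0 h0).excl_zero _ _) (Model.via _ (mR m0 h0) (fun R => freeB R yOT [[24]] yCg [0, 1] [10818, 6106] [6106, 10818] [38, 39, 38, 38, 39, 38, 38, 38, 38, 38, 26, 26, 26, 26, 26, 27, 26, 26, 26, 26, 27, 26, 26, 26, 27, 26, 27] 3439 0 [([], 3439, 6)] [[0], [1], [2]] [0, 0, 0, 0, 0, 0, 0, 0, 0, 0] yc101) c101) ((m m0 h0).solL_leaves (yot m0 h0 hb hc) [0] (Bc := [21545, 4878, 25943, 23185, 10245, 3439]) (Model.via _ (mR m0 h0) (fun R => cycB R (subst [[24]] [0]) [21545, 4878, 25943, 23185, 10245, 3439]) c78) (Model.via _ (mR m0 h0) (fun R => allL (leafB R yOT (subst [[24]] [0]) [0, 1, 2, 3, 4, 5, 6, 7] [21545, 4878, 25943, 23185, 10245, 3439] [10818, 6106] [6106, 10818]) yL100) c100) ((m m0 h0).solL_leaves (yot m0 h0 hb hc) [0] (Bc := [21545, 4878, 25943, 23185, 10245, 3439]) (Model.via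 _ (mR m0 h0) (fun R => cycB R (subst [[24]] [0]) [21545, 4878, 25943, 23185, 10245, 3439]) c78) (Model.via _ (mR m0 h0) (fun R => allL (leafB R yOT (subst [[24]] [0]) [0, 1, 2, 3, 4, 5, 6, 7] [21545, 4878, 25943, 23185, 10245, 3439] [10818, 6106] [6106, 10818]) yL99) c99) ((m m0 h0).solL_leaves (yot m0 h0 hb hc) [0] (Bc := [21545, 4878, 25943, 23185, 10245, 3439]) (Model.via _ (mR m0 h0) (fun R => cycB R (subst [[24]] [0]) [21545, 4878, 25943, 23185, 10245, 3439]) c78) (Model.via _ (mR m0 h0) (fun R => allL (leafB R yOT (subst [[24]] [0]) [0, 1, 2, 3, 4, 5, 6, 7] [21545, 4878, 25943, 23185, 10245, 3439] [10818, 6106] [6106, 10818]) yL98) c98) ((m m0 h0).solL_leaves (yot m0 h0 hb hc) [0] (Bc := [21545, 4878, 25943, 23185, 10245, 3439]) (Model.via _ (mR m0 h0) (fun R => cycB R (subst [[24]] [0]) [21545, 4878, 25943, 23185, 10245, 3439]) c78) (Model.via _ (mR m0 h0) (fun R => allL (leafB R yOT (subst [[24]] [0]) [0, 1, 2,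 3, 4, 5, 6, 7] [21545, 4878, 25943, 23185, 10245, 3439] [10818, 6106] [6106, 10818]) yL97) c97) ((m m0 h0).solL_leaves (yot m0 h0 hb hc) [0] (Bc := [21545, 4878, 25943, 23185, 10245, 3439]) (Model.via _ (mR m0 h0) (fun R => cycB R (subst [[24]] [0]) [21545, 4878, 25943, 23185, 10245, 3439]) c78) (Model.via _ (mR m0 h0) (fun R => allL (leafB R yOT (subst [[24]] [0]) [0, 1, 2, 3, 4, 5, 6, 7] [21545, 4878, 25943, 23185, 10245, 3439] [10818, 6106] [6106, 10818]) yL96) c96) ((m m0 h0).solL_leaves (yot m0 h0 hb hc) [0] (Bc := [21545, 4878, 25943, 23185, 10245, 3439]) (Model.via _ (mR m0 h0) (fun R => cycB R (subst [[24]] [0]) [21545, 4878, 25943, 23185, 10245, 3439]) c78) (Model.via _ (mR m0 h0) (fun R => allL (leafB R yOT (subst [[24]] [0]) [0, 1, 2, 3, 4, 5, 6, 7] [21545, 4878, 25943, 23185, 10245, 3439] [10818, 6106] [6106, 10818]) yL95) c95) ((m m0 h0).solL_leaves (yot m0 h0 hb hc) [0] (Bc := [21545, 4878, 25943, 23185,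 10245, 3439]) (Model.via _ (mR m0 h0) (fun R => cycB R (subst [[24]] [0]) [21545, 4878, 25943, 23185, 10245, 3439]) c78) (Model.via _ (mR m0 h0) (fun R => allL (leafB R yOT (subst [[24]] [0]) [0, 1, 2, 3, 4, 5, 6, 7] [21545, 4878, 25943, 23185, 10245, 3439] [10818, 6106] [6106, 10818]) yL94) c94) (m m0 h0).solL_nil)))))))
theorem yn6 : (m m0 h0).Sol [[24]] yCg [6106] [10818] := (m m0 h0).sol_free (ybdd m0 h0 hb hc) (ycm m0 h0 hb hc) (yot m0 h0 hb hc) ((m m0 h0).excl_mov (ybdd m0 h0 hb hc) [0] (Model.via _ (mR m0 h0) (fun R => exclB R (subst [[24]] [0]) 10818 yD1) c91)) (Model.via _ (mR m0 h0) (fun R => freeB R yOT [[24]] yCg [0] [6106] [10818] [26, 26, 26, 26, 26, 27, 26, 26, 26, 26, 27, 26, 26, 26, 27, 26, 27] 10818 yD1 [([], 10818, 7)] [[0], [1], [2]] [] yc103) c103) ((m m0 h0).solL_cons ((m m0 h0).sol_cyc [] (Bc := [10818]) (T := [6106]) rfl (Model.via _ (mR m0 h0) (fun R => cycB R (subst [[24]] []) [10818]) c77) (Model.via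 _ (mR m0 h0) (fun R => cycB R (subst [[24]] []) [6106]) c102) (yn7 m0 h0 hb hc)) (m m0 h0).solL_nil)
theorem yn0 : (m m0 h0).Sol [[24]] yCg [] [] := (m m0 h0).sol_free (ybdd m0 h0 hb hc) (ycm m0 h0 hb hc) (yot m0 h0 hb hc) ((m m0 h0).excl_mov (ybdd m0 h0 hb hc) [0] (Model.via _ (mR m0 h0) (fun R => exclB R (subst [[24]] [0]) 6106 yD0) c105)) (Model.via _ (mR m0 h0) (fun R => freeB R yOT [[24]] yCg [] [] [] [] 6106 yD0 [([], 6106, 8)] [[0], [1], [2]] [] yc106) c106) ((m m0 h0).solL_cons ((m m0 h0).sol_cyc [] (Bc := [6106]) (T := [10818]) rfl (Model.via _ (mR m0 h0) (fun R => cycB R (subst [[24]] []) [6106]) c76) (Model.via _ (mR m0 h0) (fun R => cycB R (subst [[24]] []) [10818]) c104) (yn6 m0 h0 hb hc)) ((m m0 h0).solL_cons ((m m0 h0).sol_cyc [] (Bc := [6106]) (T := [6106]) rfl (Model.via _ (mR m0 h0) (fun R => cycB R (subst [[24]] []) [6106]) c76) (Model.via _ (mR m0 h0) (fun R => cycB R (subst [[24]] []) [6106]) c93)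 (yn1 m0 h0 hb hc)) (m m0 h0).solL_nil))
theorem ysol : (m m0 h0).Sol [[24]] yCg [] [] := yn0 m0 h0 hb hc
theorem inj : Function.Injective (m m0 h0).φ := (m m0 h0).inj_of_base (base m0 h0 hb hc)
theorem gtop : gen (m m0 h0).g ([23, 24, 25].map fun x => [x]) = ⊤ :=
  top_of_marks ((m m0 h0).defsOK_g (inj m0 h0 hb hc) ((mR m0 h0).symm ▸ defs_ok)) _ (xtop m0 h0 hb hc) (by decide +kernel)
theorem cl : ∀ k ∈ Subgroup.centralizer {ev (m m0 h0).g [24]}, ∃ w ∈ CL, k = ev (m m0 h0).g w := fun k hk =>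
  list_closed (all_take_done (all_take_step (all_take_step (all_take_step (all_take_step (all_take_step (all_take_step (all_take_step (all_take_step (all_take_step (all_take_step (all_take_step (all_take_step (all_take_zero _ CE) ((m m0 h0).pairs_of (base m0 h0 hb hc) (Model.via _ (mR m0 h0) (fun R => pairsB R [2, 20380, 6320, 1, 0] ((CE.drop 0).take 19)) c117))) ((m m0 h0).pairs_of (base m0 h0 hb hc) (Model.via _ (mR m0 h0) (fun R => pairsB R [2, 20380, 6320, 1, 0] ((CE.drop 19).take 10)) c118))) ((m m0 h0).pairs_of (base m0 h0 hb hc) (Model.via _ (mR m0 h0) (fun R => pairsB R [2, 20380, 6320, 1, 0] ((CE.drop 29).take 8)) c119))) ((m m0 h0).pairs_of (base m0 h0 hb hc) (Model.via _ (mR m0 h0) (fun R => pairsB R [2, 20380, 6320, 1, 0] ((CE.drop 37).take 12)) c120))) ((m m0 h0).pairs_of (base m0 h0 hb hc) (Model.via _ (mR m0 h0) (fun R => pairsB R [2, 20380, 6320, 1, 0] ((CE.drop 49).take 17)) c121))) ((m m0 h0).pairs_of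 (base m0 h0 hb hc) (Model.via _ (mR m0 h0) (fun R => pairsB R [2, 20380, 6320, 1, 0] ((CE.drop 66).take 9)) c122))) ((m m0 h0).pairs_of (base m0 h0 hb hc) (Model.via _ (mR m0 h0) (fun R => pairsB R [2, 20380, 6320, 1, 0] ((CE.drop 75).take 7)) c123))) ((m m0 h0).pairs_of (base m0 h0 hb hc) (Model.via _ (mR m0 h0) (fun R => pairsB R [2, 20380, 6320, 1, 0] ((CE.drop 82).take 10)) c124))) ((m m0 h0).pairs_of (base m0 h0 hb hc) (Model.via _ (mR m0 h0) (fun R => pairsB R [2, 20380, 6320, 1, 0] ((CE.drop 92).take 17)) c125))) ((m m0 h0).pairs_of (base m0 h0 hb hc) (Model.via _ (mR m0 h0) (fun R => pairsB R [2, 20380, 6320, 1, 0] ((CE.drop 109).take 10)) c126))) ((m m0 h0).pairs_of (base m0 h0 hb hc) (Model.via _ (mR m0 h0) (fun R => pairsB R [2, 20380, 6320, 1, 0] ((CE.drop 119).take 7)) c127))) ((m m0 h0).pairs_of (base m0 h0 hb hc) (Model.via _ (mR m0 h0) (fun R => pairsB R [2, 20380, 6320, 1, 0] ((CE.drop 126).take 6)) c128)))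 (by decide +kernel)) (by decide +kernel) k ((m m0 h0).cent_le (ysol m0 h0 hb hc) hk)
theorem ocl : (m m0 h0).OutCl 23 24 25 [(1, [])] :=
  (m m0 h0).outCl (r := 23) (t := 2) (s := 11) (e := 1) (n := 1) (K := [1, 5]) (RL := RL) (EL := EL) hc (by decide +kernel) (by decide +kernel)
    (all_take_done (all_take_step (all_take_step (all_take_zero _ (Model.outE 23 24 25 [24] 23 2 1 1 RL)) ((m m0 h0).pairs_of (base m0 h0 hb hc) (Model.via _ (mR m0 h0) (fun R => pairsB R [2, 20380, 6320, 1, 0] (((Model.outE 23 24 25 [24] 23 2 1 1 RL).drop 0).take 6)) c129))) ((m m0 h0).pairs_of (base m0 h0 hb hc) (Model.via _ (mR m0 h0) (fun R => pairsB R [2, 20380, 6320, 1, 0] (((Model.outE 23 24 25 [24] 23 2 1 1 RL).drop 6).take 1)) c130))) (by decide +kernel)) ((m m0 h0).ne_of_neB (Model.via _ (mR m0 h0) (fun R => neB R [23] [] 0 12953 0) c131)) (xsol m0 h0 hb hc) (cl m0 h0 hb hc)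
    (by decide +kernel) (by decide +kernel) (all_take_done (all_take_step (all_take_step (all_take_zero _ EL) (allL_spec (Model.via _ (mR m0 h0) (fun R => allL (elimB R 23 24 25 RL [(1, [])]) ((EL.drop 0).take 47)) c132))) (allL_spec (Model.via _ (mR m0 h0) (fun R => allL (elimB R 23 24 25 RL [(1, [])]) ((EL.drop 47).take 41)) c133))) (by decide +kernel))
theorem out : Nat.card (Cfsg.Out G) = 1 := (m m0 h0).out_one (gtop m0 h0 hb hc) (ocl m0 h0 hb hc)
end H0.OFi23
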